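import Groth.Agent.Lib.EtH1Gm.Lift
import Groth.Agent.Lib.EtJ.PullSec
import Mathlib.Algebra.Homology.DerivedCategory.Ext.Map

/-!
# Classes in `H^1(X, F)` as boundaries of global sections
-/

universe u

open CategoryTheory CategoryTheory.Limits AlgebraicGeometry Opposite CategoryTheory.Abelian

namespace Groth.Agent.Lib.EtH1Gm.Class

open Groth.Agent.Lib.EtJ.PullSec Groth.Agent.Lib.EtH1Gm.Lift

variable {X : Scheme.{u}}

/-- The injective embedding sequence. -/
noncomputable def seq (F : EtCoh.Ab X) : ShortComplex (EtCoh.Ab X) :=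
  ShortComplex.mk (Injective.ι F) (cokernel.π (Injective.ι F)) (cokernel.condition _)

theorem seq_shortExact (F : EtCoh.Ab X) : (seq F).ShortExact where
  exact := ShortComplex.exact_of_g_is_cokernel _ (cokernelIsCokernel _)
  mono_f := inferInstanceAs (Mono (Injective.ι F))
  epi_g := inferInstanceAs (Epi (cokernel.π (Injective.ι F)))

instance (F : EtCoh.Ab X) : Injective (seq F).X₂ := inferInstanceAs (Injective (Injective.under F))

/-- The boundary of a global section. -/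
noncomputable def δ {S : ShortComplex (EtCoh.Ab X)} (hS : S.ShortExact) :
    EtCoh.sect S.X₃ (EtCoh.top X) →+ EtCoh.H X S.X₁ 1 :=
  AddMonoidHom.mk' (fun q => (Ext.mk₀ ((elem X S.X₃).symm q)).comp hS.extClass (zero_add 1))
    fun a b => by rw [map_add, Ext.mk₀_add, Ext.add_comp]

theorem δ_apply {S : ShortComplex (EtCoh.Ab X)} (hS : S.ShortExact)
    (q : EtCoh.sect S.X₃ (EtCoh.top X)) :
    δ hS q = (Ext.mk₀ ((elem X S.X₃).symm q)).comp hS.extClass (zero_add 1) := rfl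

theorem δ_surjective {S : ShortComplex (EtCoh.Ab X)} (hS : S.ShortExact) [Injective S.X₂] :
    Function.Surjective (δ hS) := fun c => by
  obtain ⟨y, hy⟩ := Ext.covariant_sequence_exact₁ _ hS c (Ext.eq_zero_of_injective _) (zero_add 1)
  obtain ⟨φ, rfl⟩ := (Ext.mk₀_bijective _ _).2 y
  exact ⟨elem X _ φ, by rw [δ_apply, AddEquiv.symm_apply_apply]; exact hy⟩

theorem δ_eq_zero_iff {S : ShortComplex (EtCoh.Ab X)} (hS : S.ShortExact)
    (q : EtCoh.sect S.X₃ (EtCoh.top X)) :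
    δ hS q = 0 ↔ ∃ t, S.g.hom.app (op (EtCoh.top X)) t = q := by
  constructor
  · intro h
    obtain ⟨y, hy⟩ := Ext.covariant_sequence_exact₃ _ hS (Ext.mk₀ ((elem X S.X₃).symm q)) (zero_add 1) h
    obtain ⟨φ, rfl⟩ := (Ext.mk₀_bijective _ _).2 y
    rw [Ext.mk₀_comp_mk₀] at hy
    refine ⟨elem X _ φ, ?_⟩
    rw [← elem_comp, (Ext.mk₀_bijective _ _).1 hy, AddEquiv.apply_symm_apply]
  · rintro ⟨t, rfl⟩
    have h : (elem X S.X₃).symm (S.g.hom.app (op (EtCoh.top X)) t) = (elem X S.X₂).symm t ≫ S.g := by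
      apply (elem X S.X₃).injective
      rw [AddEquiv.apply_symm_apply, elem_comp, AddEquiv.apply_symm_apply]
    rw [δ_apply, h, ← Ext.mk₀_comp_mk₀, Ext.comp_assoc _ _ _ (add_zero 0) (zero_add 1) (by omega),
      hS.comp_extClass, Ext.comp_zero]

/-- A class vanishes on an open over which its section lifts. -/
theorem Hpull_δ_eq_zero {S : ShortComplex (EtCoh.Ab X)} (hS : S.ShortExact)
    (q : EtCoh.sect S.X₃ (EtCoh.top X)) (W : X.Opens) [PreservesFiniteLimits (EtCoh.pull W.ι)]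
    (r : EtCoh.sect S.X₂ (EtDesc.ofOpen W))
    (hr : S.g.hom.app (op (EtDesc.ofOpen W)) r = S.X₃.obj.map (toTop (EtDesc.ofOpen W)).op q) :
    EtCore.Hpull W.ι S.X₁ 1 (δ hS q) = 0 := by
  let hV := bcIsTerminal W.ι W.ι (𝟙 _) (Category.id_comp _)
  let φ := (elem X S.X₃).symm q
  let ψ : EtCoh.const W ℤ ⟶ (EtCoh.pull W.ι).obj S.X₂ :=
    (elem _ _).symm (pullSec W.ι (EtDesc.ofOpen W) hV S.X₂ r)
  have hψ : (EtCore.pullConst W.ι ℤ).inv ≫ (EtCoh.pull W.ι).map φ = ψ ≫ (EtCoh.pull W.ι).map S.g := by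
    apply (elem _ _).injective
    rw [elem_pull, elem_comp, AddEquiv.apply_symm_apply, AddEquiv.apply_symm_apply, ← pullSec_natural,
      hr, pullSec_map]
  show (Ext.mk₀ (EtCore.pullConst W.ι ℤ).inv).comp
    (((Ext.mk₀ φ).comp hS.extClass (zero_add 1)).mapExactFunctor (EtCoh.pull W.ι)) (zero_add 1) = 0
  rw [Ext.mapExactFunctor_comp, Ext.mapExactFunctor_mk₀, Ext.mapExactFunctor_extClass]
  refine (Ext.mk₀_comp_mk₀_assoc _ ((EtCoh.pull W.ι).map φ)
    (hS.map_of_exact (EtCoh.pull W.ι)).extClass).trans ?_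
  rw [hψ]
  refine (Ext.mk₀_comp_mk₀_assoc ψ ((EtCoh.pull W.ι).map S.g)
    (hS.map_of_exact (EtCoh.pull W.ι)).extClass).symm.trans ?_
  refine (congrArg (fun e => (Ext.mk₀ ψ).comp e (zero_add 1)) ?_).trans (Ext.comp_zero _ _ _ _ _)
  exact ShortComplex.ShortExact.comp_extClass (hS.map_of_exact (EtCoh.pull W.ι))

end Groth.Agent.Lib.EtH1Gm.Class
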