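import Groth.Prelude.Def_EtLim
import Groth.Agent.Lib.EtH1Gm.Class
import Groth.Agent.Lib.EtSite.DisjointCover
import Groth.Agent.Lib.EtSite.FieldExt
import Mathlib.CategoryTheory.Abelian.Injective.Basic

/-!
# `H^n(Y, u_* F) → H^n(X, F)` in low degrees, and Hilbert 90 over fields
-/

universe u

open CategoryTheory CategoryTheory.Limits AlgebraicGeometry Opposite CategoryTheory.Abelian

namespace Groth.Agent.Lib.EtH1Gm.HofPush

open Groth.Agent.Lib.EtH1Gm.Lift Groth.Agent.Lib.EtH1Gm.Class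

section Field

variable {K : Type u} [Field K]

/-- Over a field, sections of a quotient by `G_m` lift. -/
theorem surjective_app_of_field {S : ShortComplex (EtCoh.Ab (Spec (CommRingCat.of K)))}
    (hS : S.ShortExact) (i : EtCoh.Gm (Spec (CommRingCat.of K)) ≅ S.X₁)
    (T : (Spec (CommRingCat.of K)).Etale) : Function.Surjective (S.g.hom.app (op T)) := by
  intro q
  have : Etale T.hom := T.prop
  have := EtSite.FieldExt.locallyQuasiFinite_of_etale T.hom
  have hdisc : DiscreteTopology T.left :=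
    EtSite.FieldExt.discreteTopology_of_locallyQuasiFinite T.hom
  choose W r hx hr using exists_lift_at hS i q
  let Z : T.left → T.left.Opens := fun x => ⟨{x}, isOpen_discrete _⟩
  have hZ : ∀ x, Z x ≤ W x := fun x y hy => by
    obtain rfl : y = x := hy
    exact hx y
  let a : ∀ x, sub T (Z x) ⟶ sub T (W x) := fun x =>
    MorphismProperty.Over.homMk (T.left.homOfLE (hZ x) : (Z x : Scheme.{u}) ⟶ W x)
      ((Category.assoc _ _ _).symm.trans (congrArg (· ≫ T.hom) (T.left.homOfLE_ι (hZ x))))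
  have hpt : ∀ (x : T.left) (z : (sub T (Z x)).left), (subι T (Z x)).left.base z = x := fun x z => z.2
  have hD : EtSite.DisjointCover.IsDisjointCover (fun x => sub T (Z x)) (fun x => subι T (Z x)) :=
    ⟨fun x => inferInstanceAs (IsOpenImmersion (Z x).ι), fun x => ⟨x, ⟨x, rfl⟩, rfl⟩,
      fun x y z z' h => (hpt x z).symm.trans (h.trans (hpt y z'))⟩
  obtain ⟨s, hs⟩ := hD.exists_glue S.X₂ fun x => S.X₂.obj.map (a x).op (r x)
  refine ⟨s, EtSite.Stalk.sections_ext S.X₃ _ _ fun x => ?_⟩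
  refine ⟨sub T (Z x), subι T (Z x), ?_, ⟨x, rfl⟩, rfl⟩
  refine (NatTrans.naturality_apply S.g.hom (subι T (Z x)).op s).symm.trans ?_
  rw [hs, NatTrans.naturality_apply, hr, map_map_apply]
  refine congrArg (fun m => S.X₃.obj.map (Quiver.Hom.op m) q) (MorphismProperty.Over.Hom.ext ?_)
  exact T.left.homOfLE_ι (hZ x)

/-- Hilbert 90: `H^1(K, G_m) = 0`. -/
theorem subsingleton_H1_field :
    Subsingleton (EtCoh.H (Spec (CommRingCat.of K)) (EtCoh.Gm (Spec (CommRingCat.of K))) 1) := by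
  refine subsingleton_of_forall_eq 0 fun c => ?_
  obtain ⟨q, rfl⟩ := δ_surjective (seq_shortExact _) c
  exact (δ_eq_zero_iff _ _).2 (surjective_app_of_field (seq_shortExact _) (Iso.refl _) _ q)

end Field

section Push

variable {X Y : Scheme.{u}} (u : X ⟶ Y) [PreservesFiniteLimits (EtCoh.pull u)]

theorem HofPush_apply (F : EtCoh.Ab X) (n : ℕ) (x : EtCoh.H Y ((EtCoh.push u).obj F) n) :
    EtLim.HofPush u F n x = ((Ext.mk₀ (EtCore.pullConst u ℤ).inv).comp
      (x.mapExactFunctor (EtCoh.pull u)) (zero_add n)).comp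
        (Ext.mk₀ ((EtCoh.pullPushAdj u).counit.app F)) (add_zero n) :=
  rfl

theorem HofPush_zero_injective (F : EtCoh.Ab X) : Function.Injective (EtLim.HofPush u F 0) := by
  intro x y h
  obtain ⟨φ, rfl⟩ := (Ext.mk₀_bijective _ _).2 x
  obtain ⟨ψ, rfl⟩ := (Ext.mk₀_bijective _ _).2 y
  simp only [HofPush_apply, Ext.mapExactFunctor_mk₀, Ext.mk₀_comp_mk₀] at h
  have h' := (Ext.mk₀_bijective _ _).1 h
  rw [Category.assoc, Category.assoc, cancel_epi] at h'
  exact congrArg Ext.mk₀ (((EtCoh.pullPushAdj u).homEquiv _ _).symm.injective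
    (((EtCoh.pullPushAdj u).homEquiv_counit _ _ φ).trans
      (h'.trans ((EtCoh.pullPushAdj u).homEquiv_counit _ _ ψ).symm)))

theorem comp_aux {C : Type*} [Category C] [Abelian C] [HasExt C] {P P' Q Q' R R' : C} (i : P ⟶ P')
    {n n' : ℕ} (hn : n + 1 = n') (B : Ext P' Q n) (E : Ext Q R 1) (c : R ⟶ R') (a : Q ⟶ Q')
    (E' : Ext Q' R' 1)
    (h : E.comp (Ext.mk₀ c) (add_zero 1) = (Ext.mk₀ a).comp E' (zero_add 1)) :
    ((Ext.mk₀ i).comp (B.comp E hn) (zero_add n')).comp (Ext.mk₀ c) (add_zero n') =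
      (((Ext.mk₀ i).comp B (zero_add n)).comp (Ext.mk₀ a) (add_zero n)).comp E' hn := by
  rw [Ext.comp_assoc _ _ _ (zero_add n') (add_zero n') (by omega),
    Ext.comp_assoc B E _ hn (add_zero 1) (by omega), h,
    ← Ext.comp_assoc B (Ext.mk₀ a) E' (add_zero n) (zero_add 1) (by omega),
    ← Ext.comp_assoc (Ext.mk₀ i) _ E' (zero_add n) hn (by omega),
    ← Ext.comp_assoc (Ext.mk₀ i) B _ (zero_add n) (add_zero n) (by omega)]

/-- Compatibility with connecting maps. -/
theorem HofPush_comp_extClass {S : ShortComplex (EtCoh.Ab X)} (hS : S.ShortExact)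
    {I' Q' : EtCoh.Ab Y} (a : (EtCoh.push u).obj S.X₁ ⟶ I') (b : I' ⟶ Q') (w : a ≫ b = 0)
    (hT : (ShortComplex.mk a b w).ShortExact) (α₂ : (EtCoh.pull u).obj I' ⟶ S.X₂)
    (α₃ : (EtCoh.pull u).obj Q' ⟶ S.X₃)
    (h₁ : (EtCoh.pullPushAdj u).counit.app S.X₁ ≫ S.f = (EtCoh.pull u).map a ≫ α₂)
    (h₂ : α₂ ≫ S.g = (EtCoh.pull u).map b ≫ α₃)
    {n : ℕ} {n' : ℕ} (hn : n + 1 = n') (y : EtCoh.H Y Q' n) :
    EtLim.HofPush u S.X₁ n' (Ext.comp y hT.extClass hn) =
      (((Ext.mk₀ (EtCore.pullConst u ℤ).inv).comp (y.mapExactFunctor (EtCoh.pull u))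
        (zero_add n)).comp (Ext.mk₀ α₃) (add_zero n)).comp hS.extClass hn := by
  let α : (ShortComplex.mk a b w).map (EtCoh.pull u) ⟶ S :=
    { τ₁ := (EtCoh.pullPushAdj u).counit.app S.X₁, τ₂ := α₂, τ₃ := α₃, comm₁₂ := h₁, comm₂₃ := h₂ }
  have key := ShortComplex.ShortExact.extClass_naturality (hT.map_of_exact (EtCoh.pull u)) hS α
  rw [HofPush_apply, Ext.mapExactFunctor_comp, Ext.mapExactFunctor_extClass]
  exact comp_aux _ hn _ _ _ _ _ key

end Push

theorem mk₀_g_comp_extClass {C : Type*} [Category C] [Abelian C] [HasExt C] {S : ShortComplex C}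
    (hS : S.ShortExact) {A : C} (ψ : A ⟶ S.X₂) :
    (Ext.mk₀ (ψ ≫ S.g)).comp hS.extClass (zero_add 1) = 0 := by
  rw [← Ext.mk₀_comp_mk₀, Ext.comp_assoc _ _ _ (add_zero 0) (zero_add 1) (by omega),
    hS.comp_extClass, Ext.comp_zero]

theorem adj_aux {C D : Type*} [Category C] [Category D] {L : C ⥤ D} {R : D ⥤ C} (adj : L ⊣ R)
    {A : C} {A' G H : D} (c : A' ≅ L.obj A) (ζ : A ⟶ R.obj G) (f : H ⟶ G) (φ : A' ⟶ H)
    (h : φ ≫ f = (c.hom ≫ L.map ζ) ≫ adj.counit.app G) :
    ζ = adj.homEquiv _ _ (c.inv ≫ φ) ≫ R.map f := by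
  rw [← adj.homEquiv_naturality_right, Category.assoc, h, Category.assoc, Iso.inv_hom_id_assoc]
  exact ((congrArg (adj.homEquiv A G) (adj.homEquiv_counit A G ζ)).symm.trans
    (Equiv.apply_symm_apply _ _)).symm

theorem mk₀_comp_mk₀' {C : Type*} [Category C] [Abelian C] [HasExt C] {P Q R : C} (a : P ⟶ Q)
    (b : Q ⟶ R) : (Ext.mk₀ a).comp (Ext.mk₀ b) (zero_add 0) = Ext.mk₀ (a ≫ b) :=
  Ext.mk₀_comp_mk₀ a b

theorem HofPush_mk₀ {X Y : Scheme.{u}} (u : X ⟶ Y) [PreservesFiniteLimits (EtCoh.pull u)]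
    (F : EtCoh.Ab X) (ζ : EtCoh.const Y ℤ ⟶ (EtCoh.push u).obj F) :
    EtLim.HofPush u F 0 (Ext.mk₀ ζ) =
      Ext.mk₀ (((EtCore.pullConst u ℤ).symm.hom ≫ (EtCoh.pull u).map ζ) ≫
        (EtCoh.pullPushAdj u).counit.app F) := by
  rw [HofPush_apply, Ext.mapExactFunctor_mk₀]
  exact (congrArg (fun e => Ext.comp e _ (add_zero 0)) (Ext.mk₀_comp_mk₀ _ _)).trans
    (Ext.mk₀_comp_mk₀ _ _)

theorem eq_zero_comp {C : Type*} [Category C] [Abelian C] [HasExt C] {P Q R : C} {n n' : ℕ}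
    {x : Ext P Q n} (hx : x = 0) (e : Ext Q R 1) (hn : n + 1 = n') : x.comp e hn = 0 := by
  rw [hx, Ext.zero_comp]

section Sky

variable {X : Scheme.{u}} {K : Type u} [Field K] (u : Spec (CommRingCat.of K) ⟶ X)
  [PreservesFiniteLimits (EtCoh.pull u)]

/-- The first higher direct image of `G_m` from a field vanishes. -/
theorem epi_push_seq :
    Epi ((EtCoh.push u).map (seq (EtCoh.Gm (Spec (CommRingCat.of K)))).g) := by
  refine (Sheaf.isLocallySurjective_iff_epi' _ _).1 ⟨fun {V} t => ?_⟩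
  obtain ⟨s, hs⟩ :=
    surjective_app_of_field (seq_shortExact _) (Iso.refl _) ((EtCoh.bc u).obj V) t
  refine GrothendieckTopology.superset_covering _ ?_ (GrothendieckTopology.top_mem _ _)
  intro W g _
  exact ⟨((EtCoh.push u).obj _).obj.map g.op s,
    (NatTrans.naturality_apply ((EtCoh.push u).map (seq _).g).hom g.op s).trans
      (congrArg (((EtCoh.push u).obj _).obj.map g.op) hs)⟩

theorem push_shortExact :
    ((seq (EtCoh.Gm (Spec (CommRingCat.of K)))).map (EtCoh.push u)).ShortExact := by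
  have := epi_push_seq u
  have hl : PreservesFiniteLimits (EtCoh.push u) := by
    have := (EtCoh.pullPushAdj u).rightAdjoint_preservesLimits.{0, 0}
    exact ⟨fun J _ _ => inferInstance⟩
  have hS := seq_shortExact (EtCoh.Gm (Spec (CommRingCat.of K)))
  have := hS.mono_f
  exact { exact := hS.exact.map_of_mono_of_preservesKernel (EtCoh.push u) hS.mono_f inferInstance
          mono_f := inferInstanceAs (Mono ((EtCoh.push u).map _))
          epi_g := inferInstanceAs (Epi ((EtCoh.push u).map _)) }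

theorem HofPush_δ {n n' : ℕ} (hn : n + 1 = n')
    (y : EtCoh.H X ((EtCoh.push u).obj (seq (EtCoh.Gm (Spec (CommRingCat.of K)))).X₃) n) :
    EtLim.HofPush u (EtCoh.Gm (Spec (CommRingCat.of K))) n'
        (Ext.comp y (push_shortExact u).extClass hn) =
      Ext.comp (EtLim.HofPush u _ n y) (seq_shortExact _).extClass hn :=
  HofPush_comp_extClass u (seq_shortExact (EtCoh.Gm (Spec (CommRingCat.of K))))
    _ _ _ (push_shortExact u) _ _
    ((EtCoh.pullPushAdj u).counit.naturality (seq (EtCoh.Gm _)).f).symm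
    ((EtCoh.pullPushAdj u).counit.naturality (seq (EtCoh.Gm _)).g).symm hn y

theorem injective_push_X₂ :
    Injective ((seq (EtCoh.Gm (Spec (CommRingCat.of K)))).map (EtCoh.push u)).X₂ := by
  have : (EtCoh.pull u).PreservesMonomorphisms := inferInstance
  exact (EtCoh.pullPushAdj u).map_injective _ inferInstance

theorem HofPush_one_injective :
    Function.Injective (EtLim.HofPush u (EtCoh.Gm (Spec (CommRingCat.of K))) 1) := by
  rw [injective_iff_map_eq_zero]
  intro x hx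
  have := injective_push_X₂ u
  obtain ⟨y, hy⟩ := Ext.covariant_sequence_exact₁ _ (push_shortExact u) x
    (Ext.eq_zero_of_injective _) (zero_add 1)
  rw [← hy] at hx
  replace hx := (HofPush_δ u _ y).symm.trans hx
  obtain ⟨z, hz⟩ := Ext.covariant_sequence_exact₃ _ (seq_shortExact _) _ (zero_add 1) hx
  obtain ⟨φ, rfl⟩ := (Ext.mk₀_bijective _ _).2 z
  obtain ⟨ζ, rfl⟩ := (Ext.mk₀_bijective _ _).2 y
  have hζ := adj_aux (EtCoh.pullPushAdj u) (EtCore.pullConst u ℤ).symm ζ
    (seq (EtCoh.Gm (Spec (CommRingCat.of K)))).g φ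
    ((Ext.mk₀_bijective _ _).1 (((Ext.mk₀_comp_mk₀ _ _).symm.trans hz).trans (HofPush_mk₀ u _ ζ)))
  rw [← hy, hζ]
  exact mk₀_g_comp_extClass (push_shortExact u) _

theorem HofPush_X₃_one_injective :
    ∀ y : EtCoh.H X ((EtCoh.push u).obj (seq (EtCoh.Gm (Spec (CommRingCat.of K)))).X₃) 1,
      EtLim.HofPush u _ 1 y = 0 → y = 0 := by
  intro y hy
  let F := (seq (EtCoh.Gm (Spec (CommRingCat.of K)))).X₃
  let T : ShortComplex (EtCoh.Ab X) :=
    ShortComplex.mk ((EtCoh.push u).map (Injective.ι F))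
      (Abelian.factorThruImage ((EtCoh.push u).map (cokernel.π (Injective.ι F)))) (by
        rw [← cancel_mono (Abelian.image.ι _), zero_comp, Category.assoc, Abelian.image.fac,
          ← Functor.map_comp, cokernel.condition, Functor.map_zero])
  have hl : PreservesFiniteLimits (EtCoh.push u) := by
    have := (EtCoh.pullPushAdj u).rightAdjoint_preservesLimits.{0, 0}
    exact ⟨fun J _ _ => inferInstance⟩
  have hT : T.ShortExact := by
    have hm : Mono T.f := inferInstanceAs (Mono ((EtCoh.push u).map _))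
    have he : ((seq F).map (EtCoh.push u)).Exact :=
      (seq_shortExact F).exact.map_of_mono_of_preservesKernel (EtCoh.push u)
        (seq_shortExact F).mono_f inferInstance
    refine { exact := ?_, mono_f := hm, epi_g := inferInstanceAs (Epi (Abelian.factorThruImage _)) }
    let φT : T ⟶ (seq F).map (EtCoh.push u) :=
      { τ₁ := 𝟙 _, τ₂ := 𝟙 _, τ₃ := Abelian.image.ι _
        comm₁₂ := (Category.id_comp _).trans (Category.comp_id _).symm
        comm₂₃ := (Category.id_comp _).trans (Abelian.image.fac _).symm }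
    have : Epi φT.τ₁ := inferInstanceAs (Epi (𝟙 _))
    have : IsIso φT.τ₂ := inferInstanceAs (IsIso (𝟙 _))
    have : Mono φT.τ₃ := show Mono (Abelian.image.ι ((EtCoh.push u).map (cokernel.π (Injective.ι F)))) from
      inferInstanceAs (Mono (kernel.ι _))
    exact (ShortComplex.exact_iff_of_epi_of_isIso_of_mono φT).2 he
  have : Injective T.X₂ := (EtCoh.pullPushAdj u).map_injective _ inferInstance
  obtain ⟨z, rfl⟩ := Ext.covariant_sequence_exact₁ _ hT y (Ext.eq_zero_of_injective _) (zero_add 1)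
  let ι₃ := Abelian.image.ι ((EtCoh.push u).map (cokernel.π (Injective.ι F)))
  let α₃ := (EtCoh.pull u).map ι₃ ≫ (EtCoh.pullPushAdj u).counit.app _
  have h := HofPush_comp_extClass u (seq_shortExact F) T.f T.g T.zero hT
    ((EtCoh.pullPushAdj u).counit.app _) α₃
    ((EtCoh.pullPushAdj u).counit.naturality (Injective.ι F)).symm (by
      refine Eq.trans ?_ (Category.assoc _ _ _)
      rw [← Functor.map_comp, Abelian.image.fac]
      exact ((EtCoh.pullPushAdj u).counit.naturality (cokernel.π (Injective.ι F))).symm)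
    (zero_add 1) z
  have h0 := h.symm.trans hy
  obtain ⟨w, hw⟩ := Ext.covariant_sequence_exact₃ _ (seq_shortExact F) _ (zero_add 1) h0
  obtain ⟨φ, rfl⟩ := (Ext.mk₀_bijective _ _).2 w
  obtain ⟨ζ, rfl⟩ := (Ext.mk₀_bijective _ _).2 z
  have hw' : φ ≫ cokernel.π (Injective.ι F) =
      ((EtCore.pullConst u ℤ).symm.hom ≫ (EtCoh.pull u).map (ζ ≫ ι₃)) ≫
        (EtCoh.pullPushAdj u).counit.app _ := by
    refine (Ext.mk₀_bijective _ _).1 (((Ext.mk₀_comp_mk₀ _ _).symm.trans hw).trans ?_)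
    rw [Ext.mapExactFunctor_mk₀]
    refine ((congrArg (fun e => Ext.comp e _ (add_zero 0)) (Ext.mk₀_comp_mk₀ _ _)).trans
      (Ext.mk₀_comp_mk₀ _ _)).trans (congrArg Ext.mk₀ ?_)
    simp [α₃]
    exact Category.assoc _ _ _
  have e1 := adj_aux (EtCoh.pullPushAdj u) (EtCore.pullConst u ℤ).symm (ζ ≫ ι₃)
    (cokernel.π (Injective.ι F)) φ hw'
  let ψ : EtCoh.const X ℤ ⟶ T.X₂ :=
    (EtCoh.pullPushAdj u).homEquiv _ _ ((EtCore.pullConst u ℤ).symm.inv ≫ φ)
  have : Mono ι₃ := inferInstanceAs (Mono (kernel.ι _))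
  have hζ : ζ = ψ ≫ T.g := (cancel_mono ι₃).1
    (e1.trans ((Category.assoc _ _ _).trans (congrArg (ψ ≫ ·) (Abelian.image.fac _))).symm)
  rw [hζ]
  exact mk₀_g_comp_extClass hT ψ

theorem HofPush_two_injective :
    Function.Injective (EtLim.HofPush u (EtCoh.Gm (Spec (CommRingCat.of K))) 2) := by
  rw [injective_iff_map_eq_zero]
  intro x hx
  have := injective_push_X₂ u
  obtain ⟨y, hy⟩ := Ext.covariant_sequence_exact₁ _ (push_shortExact u) x
    (Ext.eq_zero_of_injective _) (show 1 + 1 = 2 from rfl)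
  rw [← hy] at hx
  replace hx := (HofPush_δ u _ y).symm.trans hx
  obtain ⟨z, hz⟩ := Ext.covariant_sequence_exact₃ _ (seq_shortExact _) _ (show 1 + 1 = 2 from rfl) hx
  rw [Ext.eq_zero_of_injective z, Ext.zero_comp] at hz
  rw [← hy]
  exact eq_zero_comp (HofPush_X₃_one_injective u y hz.symm) _ _

theorem subsingleton_H1_push :
    Subsingleton (EtCoh.H X ((EtCoh.push u).obj (EtCoh.Gm (Spec (CommRingCat.of K)))) 1) :=
  have := subsingleton_H1_field (K := K)
  (HofPush_one_injective u).subsingleton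

end Sky

end Groth.Agent.Lib.EtH1Gm.HofPush
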