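import Groth.Agent.Lib.EtH1Gm.RingDesc
import Groth.Agent.Lib.EtSite.OpenSub
import Groth.Agent.Lib.EtSite.Basic
import Groth.Agent.H88.MuLocal
import Groth.Prelude.Def_EtOpen
import Mathlib.RingTheory.Etale.Basic
import Mathlib.RingTheory.RingHom.Etale
import Mathlib.RingTheory.Flat.FaithfullyFlat.Algebra

/-!
# Sections of a quotient by `G_m` lift Zariski locally

If `0 → G_m → I → Q → 0` is exact on the small étale site, then every global section of `Q` lifts
to `I` on the members of a Zariski cover (Hilbert 90).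
-/

universe u

open CategoryTheory CategoryTheory.Limits AlgebraicGeometry Opposite TensorProduct

namespace Groth.Agent.Lib.EtH1Gm.Lift

open Groth.Agent.H88 Groth.Agent.Lib.EtH1Gm.RingDesc

variable {X : Scheme.{u}}

/-- The map to the final object of the small site. -/
noncomputable def toTop (T : X.Etale) : T ⟶ EtCoh.top X :=
  MorphismProperty.Over.homMk T.hom (Category.comp_id _)

theorem toTop_ext {T : X.Etale} (a b : T ⟶ EtCoh.top X) : a = b :=
  MorphismProperty.Over.Hom.ext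
    (((Category.comp_id a.left).symm.trans (Over.w a.hom :)).trans
      ((Category.comp_id b.left).symm.trans (Over.w b.hom :)).symm)

theorem map_map_apply (F : EtCoh.Ab X) {T T' T'' : X.Etale} (a : T' ⟶ T) (b : T'' ⟶ T')
    (s : EtCoh.sect F T) : F.obj.map b.op (F.obj.map a.op s) = F.obj.map (b ≫ a).op s := by
  rw [← ConcreteCategory.comp_apply, ← Functor.map_comp]; rfl

section Seq

variable {S : ShortComplex (EtCoh.Ab X)} (hS : S.ShortExact)

include hS

theorem injective_app (T : X.Etale) : Function.Injective (S.f.hom.app (op T)) := by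
  have := hS.mono_f
  intro a b h
  obtain ⟨φ, rfl⟩ := (FreeSheaf.ev_bijective T _).2 a
  obtain ⟨ψ, rfl⟩ := (FreeSheaf.ev_bijective T _).2 b
  rw [← FreeSheaf.ev_comp, ← FreeSheaf.ev_comp] at h
  exact congrArg FreeSheaf.ev ((cancel_mono S.f).1 ((FreeSheaf.ev_bijective T _).1 h))

theorem exists_eq_app (T : X.Etale) (t : EtCoh.sect S.X₂ T) (h : S.g.hom.app (op T) t = 0) :
    ∃ s, S.f.hom.app (op T) s = t := by
  have := hS.mono_f
  obtain ⟨φ, rfl⟩ := (FreeSheaf.ev_bijective T _).2 t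
  have h0 : φ ≫ S.g = 0 := by
    refine (FreeSheaf.ev_bijective T _).1 ?_
    rw [FreeSheaf.ev_comp, h, ← comp_zero (f := φ) (Z := S.X₃), FreeSheaf.ev_comp]
    rfl
  obtain ⟨l, hl⟩ := KernelFork.IsLimit.lift' hS.fIsKernel φ h0
  exact ⟨FreeSheaf.ev l, by rw [← FreeSheaf.ev_comp]; exact congrArg FreeSheaf.ev hl⟩

end Seq

/-- An open of an object of the small site, as an object. -/
noncomputable def sub (T : X.Etale) (W : T.left.Opens) : X.Etale :=
  MorphismProperty.Over.mk ⊤ (W.ι ≫ T.hom) (by have : Etale T.hom := T.prop; infer_instance)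

/-- The inclusion of an open of an object. -/
noncomputable def subι (T : X.Etale) (W : T.left.Opens) : sub T W ⟶ T :=
  MorphismProperty.Over.homMk W.ι

instance mono_subι (T : X.Etale) (W : T.left.Opens) : Mono (subι T W) :=
  ⟨fun {Z} a b h => MorphismProperty.Over.Hom.ext
    ((cancel_mono W.ι).1 (congrArg (fun m : Z ⟶ T => m.left) h))⟩

section Affine

variable {A : CommRingCat.{u}} (e : Spec A ⟶ X) [Etale e]

theorem etale_spec (C : Type u) [CommRing C] [Algebra A C] [Algebra.Etale A C] :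
    Etale (Spec.map (CommRingCat.ofHom (algebraMap A C)) ≫ e) := by
  have : Etale (Spec.map (CommRingCat.ofHom (algebraMap A C))) :=
    (HasRingHomProperty.Spec_iff (P := @Etale)).2 (RingHom.etale_algebraMap.2 inferInstance)
  infer_instance

/-- The object of an étale algebra over an affine piece. -/
noncomputable def Ob (C : Type u) [CommRing C] [Algebra A C] [Algebra.Etale A C] : X.Etale :=
  MorphismProperty.Over.mk ⊤ (Spec.map (CommRingCat.ofHom (algebraMap A C)) ≫ e) (etale_spec e C)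

variable {C D E : Type u} [CommRing C] [Algebra A C] [Algebra.Etale A C]
  [CommRing D] [Algebra A D] [Algebra.Etale A D] [CommRing E] [Algebra A E] [Algebra.Etale A E]

/-- The morphism of an algebra map. -/
noncomputable def obMap (φ : C →ₐ[A] D) : Ob e D ⟶ Ob e C :=
  MorphismProperty.Over.homMk (Spec.map (CommRingCat.ofHom φ.toRingHom))
    (show Spec.map (CommRingCat.ofHom φ.toRingHom) ≫
        Spec.map (CommRingCat.ofHom (algebraMap A C)) ≫ e = _ by
      rw [← Spec.map_comp_assoc, ← CommRingCat.ofHom_comp]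
      erw [φ.comp_algebraMap]
      rfl)

theorem obMap_comp (φ : C →ₐ[A] D) (ψ : D →ₐ[A] E) :
    obMap e ψ ≫ obMap e φ = obMap e (ψ.comp φ) :=
  MorphismProperty.Over.Hom.ext
    (show Spec.map (CommRingCat.ofHom ψ.toRingHom) ≫ Spec.map (CommRingCat.ofHom φ.toRingHom) =
        Spec.map (CommRingCat.ofHom (ψ.comp φ).toRingHom) by
      rw [← Spec.map_comp]; rfl)

/-- The element of the algebra underlying a section of `G_m`. -/
noncomputable def vOb (x : EtCoh.sect (EtCoh.Gm X) (Ob e C)) : C :=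
  (Scheme.ΓSpecIso (CommRingCat.of C)).hom (MuLocal.val x)

theorem vOb_map (φ : C →ₐ[A] D) (x : EtCoh.sect (EtCoh.Gm X) (Ob e C)) :
    vOb e ((EtCoh.Gm X).obj.map (obMap e φ).op x) = φ (vOb e x) :=
  ConcreteCategory.congr_hom (Scheme.ΓSpecIso_naturality (CommRingCat.ofHom φ.toRingHom))
    (MuLocal.val x)

theorem vOb_add (x y : EtCoh.sect (EtCoh.Gm X) (Ob e C)) :
    vOb e (x + y) = vOb e x * vOb e y :=
  (congrArg _ (Units.val_mul _ _)).trans (map_mul (Scheme.ΓSpecIso (CommRingCat.of C)).hom.hom _ _)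

theorem isUnit_vOb (x : EtCoh.sect (EtCoh.Gm X) (Ob e C)) : IsUnit (vOb e x) :=
  (Additive.toMul (ULift.down x : Additive (Γ((Ob e C).left, ⊤))ˣ)).isUnit.map
    (Scheme.ΓSpecIso (CommRingCat.of C)).hom.hom

theorem exists_vOb_eq {c : C} (hc : IsUnit c) :
    ∃ x : EtCoh.sect (EtCoh.Gm X) (Ob e C), vOb e x = c :=
  ⟨ULift.up (Additive.ofMul (hc.map (Scheme.ΓSpecIso (CommRingCat.of C)).inv.hom).unit),
    Iso.inv_hom_id_apply (Scheme.ΓSpecIso (CommRingCat.of C)) c⟩

/-- Two morphisms to an affine object over a monomorphism factor through the tensor square. -/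
theorem exists_factor {B : Type u} [CommRing B] [Algebra A B] [Algebra.Etale A B]
    [Algebra.Etale A (B ⊗[A] B)] {Z : X.Etale} (a b : Z ⟶ Ob e B)
    (hab : a.left ≫ Spec.map (CommRingCat.ofHom (algebraMap A B)) =
      b.left ≫ Spec.map (CommRingCat.ofHom (algebraMap A B))) :
    ∃ h : Z ⟶ Ob e (B ⊗[A] B),
      h ≫ obMap e Algebra.TensorProduct.includeLeft = a ∧
      h ≫ obMap e Algebra.TensorProduct.includeRight = b := by
  let al : Z.left ⟶ Spec (CommRingCat.of B) := a.left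
  let bl : Z.left ⟶ Spec (CommRingCat.of B) := b.left
  let π := Spec.map (CommRingCat.ofHom (algebraMap A B))
  have hw : al ≫ π = bl ≫ π := hab
  let hl : Z.left ⟶ Spec (CommRingCat.of (B ⊗[A] B)) :=
    pullback.lift al bl hw ≫ (pullbackSpecIso A B B).hom
  have h₁ : hl ≫ Spec.map (CommRingCat.ofHom
      (Algebra.TensorProduct.includeLeftRingHom : B →+* B ⊗[A] B)) = al := by
    rw [Category.assoc]
    erw [pullbackSpecIso_hom_fst]
    exact pullback.lift_fst _ _ _
  have h₂ : hl ≫ Spec.map (CommRingCat.ofHom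
      (Algebra.TensorProduct.includeRight (R := A) (A := B) (B := B)).toRingHom) = bl := by
    rw [Category.assoc]
    erw [pullbackSpecIso_hom_snd]
    exact pullback.lift_snd _ _ _
  refine ⟨MorphismProperty.Over.homMk hl ?_, MorphismProperty.Over.Hom.ext h₁,
    MorphismProperty.Over.Hom.ext h₂⟩
  refine Eq.trans ?_ (((congrArg (· ≫ π ≫ e) h₁).trans rfl).trans (Over.w a.hom :))
  change hl ≫ Spec.map (CommRingCat.ofHom (algebraMap A (B ⊗[A] B))) ≫ e = _
  have h0 : Spec.map (CommRingCat.ofHom (algebraMap A (B ⊗[A] B))) =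
      Spec.map (CommRingCat.ofHom
        (Algebra.TensorProduct.includeLeftRingHom : B →+* B ⊗[A] B)) ≫ π := by
    rw [← Spec.map_comp]; rfl
  rw [h0]
  simp only [Category.assoc]

/-- Hilbert 90: a local lift on an étale algebra gives a lift on a basic open piece. -/
theorem exists_lift_affine {T₀ : X.Etale} (e₀ : Spec A ⟶ T₀.left) [IsOpenImmersion e₀]
    (he : e₀ ≫ T₀.hom = e) {S : ShortComplex (EtCoh.Ab X)} (hS : S.ShortExact)
    (i : EtCoh.Gm X ≅ S.X₁) (q : EtCoh.sect S.X₃ T₀)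
    {B : Type u} [CommRing B] [Algebra A B] [Algebra.Etale A B]
    (s : EtCoh.sect S.X₂ (Ob e B))
    (k₀ : Ob e B ⟶ T₀) (hk₀ : k₀.left = Spec.map (CommRingCat.ofHom (algebraMap A B)) ≫ e₀)
    (hs : S.g.hom.app (op (Ob e B)) s = S.X₃.obj.map k₀.op q)
    (q₀ : PrimeSpectrum B) :
    ∃ (W : T₀.left.Opens) (r : EtCoh.sect S.X₂ (sub T₀ W)),
      (Spec.map (CommRingCat.ofHom (algebraMap A B)) ≫ e₀).base q₀ ∈ W ∧
      S.g.hom.app (op (sub T₀ W)) r = S.X₃.obj.map (subι T₀ W).op q := by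
  have : Algebra.Etale A (B ⊗[A] B) := Algebra.Etale.comp A B (B ⊗[A] B)
  have : Algebra.Etale A ((B ⊗[A] B) ⊗[A] B) :=
    Algebra.Etale.comp A (B ⊗[A] B) ((B ⊗[A] B) ⊗[A] B)
  let ιG : ∀ T : X.Etale, EtCoh.sect (EtCoh.Gm X) T → EtCoh.sect S.X₂ T :=
    fun T u => S.f.hom.app (op T) (i.hom.hom.app (op T) u)
  have ιG_inj : ∀ T, Function.Injective (ιG T) := fun T u v h => by
    have h1 := congrArg (i.inv.hom.app (op T)) (injective_app hS T h)
    have hid : ∀ w, i.inv.hom.app (op T) (i.hom.hom.app (op T) w) = w := fun w =>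
      ConcreteCategory.congr_hom (congrArg (fun m => m.hom.app (op T)) i.hom_inv_id) w
    rwa [hid, hid] at h1
  have ιG_add : ∀ T u v, ιG T (u + v) = ιG T u + ιG T v := fun T u v => by
    simp only [ιG, map_add]
  have ιG_map : ∀ {T T' : X.Etale} (w : T' ⟶ T) (u : EtCoh.sect (EtCoh.Gm X) T),
      ιG T' ((EtCoh.Gm X).obj.map w.op u) = S.X₂.obj.map w.op (ιG T u) := fun {T T'} w u => by
    simp only [ιG]
    rw [NatTrans.naturality_apply i.hom.hom w.op u, NatTrans.naturality_apply S.f.hom w.op]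
  have gι : ∀ T u, S.g.hom.app (op T) (ιG T u) = 0 := fun T u =>
    ConcreteCategory.congr_hom (congrArg (fun m => m.hom.app (op T)) S.zero) _
  have ex : ∀ T (t : EtCoh.sect S.X₂ T), S.g.hom.app (op T) t = 0 → ∃ u, ιG T u = t := fun T t ht => by
    obtain ⟨u, hu⟩ := exists_eq_app hS T t ht
    refine ⟨i.inv.hom.app (op T) u, ?_⟩
    show S.f.hom.app (op T) (i.hom.hom.app (op T) (i.inv.hom.app (op T) u)) = t
    rw [show i.hom.hom.app (op T) (i.inv.hom.app (op T) u) = u from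
      ConcreteCategory.congr_hom (congrArg (fun m => m.hom.app (op T)) i.inv_hom_id) u]
    exact hu
  -- the restriction of `s` along a map
  have gs : ∀ {T : X.Etale} (a : T ⟶ Ob e B),
      S.g.hom.app (op T) (S.X₂.obj.map a.op s) = S.X₃.obj.map (a ≫ k₀).op q := fun {T} a => by
    rw [NatTrans.naturality_apply, hs, map_map_apply]
  let π₀ := Spec.map (CommRingCat.ofHom (algebraMap A B))
  have hk : ∀ {T : X.Etale} (a b : T ⟶ Ob e B), a.left ≫ π₀ = b.left ≫ π₀ → a ≫ k₀ = b ≫ k₀ :=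
    fun {T} a b h => MorphismProperty.Over.Hom.ext
      (show a.left ≫ k₀.left = b.left ≫ k₀.left by
        rw [hk₀]; exact (Category.assoc _ _ _).symm.trans ((congrArg (· ≫ e₀) h).trans (Category.assoc _ _ _)))
  have hπi : ∀ φ ψ : B →ₐ[A] B ⊗[A] B, (obMap e φ).left ≫ π₀ = (obMap e ψ).left ≫ π₀ := fun φ ψ =>
    show Spec.map (CommRingCat.ofHom φ.toRingHom) ≫ π₀ = Spec.map (CommRingCat.ofHom ψ.toRingHom) ≫ π₀ by
      rw [← Spec.map_comp, ← Spec.map_comp, ← CommRingCat.ofHom_comp, ← CommRingCat.ofHom_comp]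
      erw [φ.comp_algebraMap, ψ.comp_algebraMap]
  let i₁ : B →ₐ[A] B ⊗[A] B := Algebra.TensorProduct.includeLeft
  let i₂ : B →ₐ[A] B ⊗[A] B := Algebra.TensorProduct.includeRight
  obtain ⟨u, hu⟩ := ex (Ob e (B ⊗[A] B))
    (S.X₂.obj.map (obMap e i₁).op s - S.X₂.obj.map (obMap e i₂).op s)
    (by rw [map_sub, gs, gs, hk _ _ (hπi i₁ i₂), sub_self])
  let γ : B ⊗[A] B := vOb e u
  -- cocycle
  have hd : ∀ a b : B →ₐ[A] (B ⊗[A] B) ⊗[A] B,
      ιG _ ((EtCoh.Gm X).obj.map (obMap e (d a b)).op u) =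
        S.X₂.obj.map (obMap e a).op s - S.X₂.obj.map (obMap e b).op s := fun a b => by
    rw [ιG_map, hu, map_sub, map_map_apply, map_map_apply, obMap_comp, obMap_comp,
      show (d a b).comp i₁ = a from Algebra.TensorProduct.lift_comp_includeLeft _ _ fun _ _ => .all _ _,
      show (d a b).comp i₂ = b from Algebra.TensorProduct.lift_comp_includeRight _ _ fun _ _ => .all _ _]
  have hc : d (j₁ A B) (j₂ A B) γ * d (j₂ A B) (j₃ A B) γ = d (j₁ A B) (j₃ A B) γ := by
    rw [← vOb_map, ← vOb_map, ← vOb_map, ← vOb_add]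
    refine congrArg (vOb e) (ιG_inj _ ?_)
    rw [ιG_add, hd, hd, hd, sub_add_sub_cancel]
  obtain ⟨m, hm, hmq⟩ := exists_mem_ker_notMem γ (isUnit_vOb e u) hc q₀.asIdeal
  -- a basic open inside the image of `D(m)`
  let π : PrimeSpectrum B → PrimeSpectrum A := PrimeSpectrum.comap (algebraMap A B)
  have : Etale (Spec.map (CommRingCat.ofHom (algebraMap A B))) :=
    (HasRingHomProperty.Spec_iff (P := @Etale)).2 (RingHom.etale_algebraMap.2 inferInstance)
  have hopen : IsOpen (π '' (PrimeSpectrum.basicOpen m : Set (PrimeSpectrum B))) :=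
    (Spec.map (CommRingCat.ofHom (algebraMap A B))).isOpenMap _ (PrimeSpectrum.basicOpen m).isOpen
  obtain ⟨_, ⟨f, rfl⟩, hf₀, hfsub⟩ := PrimeSpectrum.isTopologicalBasis_basic_opens.exists_subset_of_mem_open
    (show π q₀ ∈ π '' (PrimeSpectrum.basicOpen m : Set (PrimeSpectrum B)) from ⟨q₀, hmq, rfl⟩) hopen
  let B' := Localization.Away (algebraMap A B f)
  have : Algebra.Etale B B' := Algebra.Etale.of_isLocalizationAway (algebraMap A B f)
  have : Algebra.Etale A B' := Algebra.Etale.comp A B B'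
  let loc : B →ₐ[A] B' := IsScalarTower.toAlgHom A B B'
  have hf' : ∀ Q : PrimeSpectrum B', algebraMap A B f ∉ (PrimeSpectrum.comap loc.toRingHom Q).asIdeal :=
    fun Q h => Q.isPrime.ne_top (Ideal.eq_top_of_isUnit_mem _ h (IsLocalization.Away.algebraMap_isUnit _))
  have hmu : IsUnit (loc m) := by
    by_contra hnu
    obtain ⟨Q, hQ, hmQ⟩ := exists_max_ideal_of_mem_nonunits hnu
    let Q' : PrimeSpectrum B := PrimeSpectrum.comap loc.toRingHom ⟨Q, hQ.isPrime⟩
    obtain ⟨q'', hq'', he''⟩ := hfsub (show π Q' ∈ (PrimeSpectrum.basicOpen f : Set _) from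
      hf' ⟨Q, hQ.isPrime⟩)
    exact notMem_of_comap_eq (isUnit_vOb e u) hm he'' hq'' hmQ
  obtain ⟨μ, hμ⟩ := exists_vOb_eq e hmu
  let ι := obMap e loc
  let s' := S.X₂.obj.map ι.op s + ιG _ μ
  -- the corrected section is compatible
  have key : ∀ {Z : X.Etale} (a b : Z ⟶ Ob e B'), a ≫ ι ≫ k₀ = b ≫ ι ≫ k₀ →
      S.X₂.obj.map a.op s' = S.X₂.obj.map b.op s' := by
    intro Z a b hab
    obtain ⟨h, h₁, h₂⟩ := exists_factor e (a ≫ ι) (b ≫ ι) ((cancel_mono e₀).1 (by
      have h : a.left ≫ ι.left ≫ k₀.left = b.left ≫ ι.left ≫ k₀.left :=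
        congrArg (fun m : Z ⟶ T₀ => m.left) hab
      rw [hk₀] at h
      change ((a.left ≫ ι.left) ≫ π₀) ≫ e₀ = ((b.left ≫ ι.left) ≫ π₀) ≫ e₀
      exact (Category.assoc _ _ _).trans ((Category.assoc _ _ _).trans
        (h.trans ((Category.assoc _ _ _).trans (Category.assoc _ _ _)).symm))))
    have hval : ∀ (w : Z ⟶ Ob e B') (jj : B →ₐ[A] B ⊗[A] B), h ≫ obMap e jj = w ≫ ι →
        MuLocal.val ((EtCoh.Gm X).obj.map w.op μ) =
          h.left.appTop ((Scheme.ΓSpecIso (CommRingCat.of (B ⊗[A] B))).inv (jj m)) := by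
      intro w jj hw
      have h1 : MuLocal.val μ = ι.left.appTop ((Scheme.ΓSpecIso (CommRingCat.of B)).inv m) := by
        refine ((Scheme.ΓSpecIso (CommRingCat.of B')).hom_inv_id_apply (MuLocal.val μ)).symm.trans
          ((congrArg _ hμ).trans ?_)
        exact ConcreteCategory.congr_hom
          (Scheme.ΓSpecIso_inv_naturality (CommRingCat.ofHom loc.toRingHom)) m
      have h2 : (Scheme.ΓSpecIso (CommRingCat.of (B ⊗[A] B))).inv (jj m) =
          (obMap e jj).left.appTop ((Scheme.ΓSpecIso (CommRingCat.of B)).inv m) :=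
        ConcreteCategory.congr_hom (Scheme.ΓSpecIso_inv_naturality (CommRingCat.ofHom jj.toRingHom)) m
      rw [MuLocal.val_map, h1, h2]
      have := congrArg (fun k : Z ⟶ Ob e B =>
        k.left.appTop ((Scheme.ΓSpecIso (CommRingCat.of B)).inv m)) hw
      exact this.symm
    have hγ : (EtCoh.Gm X).obj.map h.op u + (EtCoh.Gm X).obj.map a.op μ =
        (EtCoh.Gm X).obj.map b.op μ := by
      apply MuLocal.val_injective
      rw [hval b i₂ h₂, show MuLocal.val ((EtCoh.Gm X).obj.map h.op u + (EtCoh.Gm X).obj.map a.op μ) =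
        MuLocal.val ((EtCoh.Gm X).obj.map h.op u) * MuLocal.val ((EtCoh.Gm X).obj.map a.op μ) from
          Units.val_mul _ _, hval a i₁ h₁, MuLocal.val_map]
      have hγu : MuLocal.val u = (Scheme.ΓSpecIso (CommRingCat.of (B ⊗[A] B))).inv γ :=
        ((Scheme.ΓSpecIso (CommRingCat.of (B ⊗[A] B))).hom_inv_id_apply (MuLocal.val u)).symm
      rw [hγu]
      refine (map_mul h.left.appTop.hom _ _).symm.trans ?_
      refine congrArg h.left.appTop.hom ?_
      exact (map_mul (Scheme.ΓSpecIso (CommRingCat.of (B ⊗[A] B))).inv.hom γ (i₁ m)).symm.trans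
        (congrArg (Scheme.ΓSpecIso (CommRingCat.of (B ⊗[A] B))).inv.hom hm)
    have hdiff : S.X₂.obj.map (a ≫ ι).op s - S.X₂.obj.map (b ≫ ι).op s =
        ιG Z ((EtCoh.Gm X).obj.map h.op u) := by
      rw [ιG_map, hu, map_sub, map_map_apply, map_map_apply, h₁, h₂]
    show S.X₂.obj.map a.op (_ + _) = S.X₂.obj.map b.op (_ + _)
    rw [map_add, map_add, map_map_apply, map_map_apply, ← ιG_map, ← ιG_map, ← hγ, ιG_add, ← hdiff]
    abel
  -- descend to the open piece
  let W : T₀.left.Opens := e₀ ''ᵁ PrimeSpectrum.basicOpen f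
  let oL : (Ob e B').left ⟶ T₀.left := (ι ≫ k₀).left
  have hoL : oL = Spec.map (CommRingCat.ofHom (algebraMap A B')) ≫ e₀ := by
    change ι.left ≫ k₀.left = _
    rw [hk₀]
    change Spec.map (CommRingCat.ofHom loc.toRingHom) ≫ _ = _
    rw [← Spec.map_comp_assoc]
    rfl
  have hmem : ∀ Q : PrimeSpectrum B', oL.base Q ∈ W := fun Q => by
    rw [hoL]
    refine ⟨PrimeSpectrum.comap (algebraMap A B') Q, ?_, rfl⟩
    have := hf' Q
    rw [IsScalarTower.algebraMap_eq A B B', PrimeSpectrum.comap_comp]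
    exact this
  let lW : (Ob e B').left ⟶ (W : Scheme.{u}) := IsOpenImmersion.lift W.ι oL (by
    rw [Scheme.Opens.range_ι]; rintro _ ⟨Q, rfl⟩; exact hmem Q)
  have hlW : lW ≫ W.ι = oL := IsOpenImmersion.lift_fac _ _ _
  let o : Ob e B' ⟶ sub T₀ W := MorphismProperty.Over.homMk lW (by
    show lW ≫ W.ι ≫ T₀.hom = _
    rw [← Category.assoc, hlW]
    exact Over.w (ι ≫ k₀).hom)
  have ho : o ≫ subι T₀ W = ι ≫ k₀ := MorphismProperty.Over.Hom.ext hlW
  have hcov : Sieve.ofArrows (fun _ : Unit => Ob e B') (fun _ => o) ∈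
      X.smallEtaleTopology (sub T₀ W) := EtSite.Basic.ofArrows_mem _ _ fun w => by
    obtain ⟨p, hp, hpw⟩ := (w : (W : Scheme.{u})).2
    obtain ⟨q', -, hq'⟩ := hfsub hp
    obtain ⟨Q, hQ⟩ : q' ∈ Set.range (PrimeSpectrum.comap (algebraMap B B')) := by
      rw [PrimeSpectrum.localization_away_comap_range B' (algebraMap A B f)]
      show algebraMap A B f ∉ q'.asIdeal
      rw [← hq'] at hp
      exact hp
    refine ⟨(), Q, Subtype.ext ?_⟩
    refine Eq.trans ?_ hpw
    rw [← hq', ← hQ]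
    refine (congrArg (fun m => m.base Q) hlW).trans ?_
    rw [hoL]
    rw [IsScalarTower.algebraMap_eq A B B']
    rfl
  have hsheaf : ∀ F : EtCoh.Ab X, (Presieve.ofArrows (fun _ : Unit => Ob e B') (fun _ => o)).IsSheafFor
      (F.obj ⋙ forget AddCommGrpCat.{u + 1}) := fun F => by
    rw [Presieve.isSheafFor_iff_generate]
    exact ((isSheaf_iff_isSheaf_of_type _ _).1
      ((sheafCompose X.smallEtaleTopology (forget AddCommGrpCat.{u + 1})).obj F).2) _ hcov
  obtain ⟨r, hr, -⟩ := (Presieve.isSheafFor_arrows_iff _ _).1 (hsheaf S.X₂) (fun _ => s')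
    (fun _ _ Z a b hab => key a b (by rw [← ho, reassoc_of% hab]))
  refine ⟨W, r, ⟨PrimeSpectrum.comap (algebraMap A B) q₀, hf₀, rfl⟩, ?_⟩
  refine (hsheaf S.X₃).isSeparatedFor.ext fun Z g hg => ?_
  obtain ⟨⟨⟩⟩ := hg
  change S.X₃.obj.map o.op _ = S.X₃.obj.map o.op _
  rw [← NatTrans.naturality_apply, show S.X₂.obj.map o.op r = s' from hr (), map_map_apply, ho,
    map_add, gι, add_zero, gs]

end Affine

/-- Every section of the quotient lifts near each point. -/
theorem exists_lift_at {S : ShortComplex (EtCoh.Ab X)} (hS : S.ShortExact)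
    (i : EtCoh.Gm X ≅ S.X₁) {T₀ : X.Etale} (q : EtCoh.sect S.X₃ T₀) (x : T₀.left) :
    ∃ (W : T₀.left.Opens) (r : EtCoh.sect S.X₂ (sub T₀ W)), x ∈ W ∧
      S.g.hom.app (op (sub T₀ W)) r = S.X₃.obj.map (subι T₀ W).op q := by
  have : Sheaf.IsLocallySurjective S.g := (Sheaf.isLocallySurjective_iff_epi' _ _).2 hS.epi_g
  obtain ⟨T, k, ⟨s, hsk⟩, t, ht⟩ := (EtSite.Basic.mem_topology_iff _).1
    (Presheaf.imageSieve_mem X.smallEtaleTopology S.g.hom q) x
  obtain ⟨_, ⟨U, (hU : IsAffineOpen U), rfl⟩, hxU, -⟩ :=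
    T₀.left.isBasis_affineOpens.exists_subset_of_mem_open (Set.mem_univ x) isOpen_univ
  obtain ⟨C, j, hj, ⟨c, hc⟩, hsub⟩ := Scheme.exists_affine_mem_range_and_range_subset
    (x := t) (U := k.left ⁻¹ᵁ U) (show k.left.base t ∈ U by rw [ht]; exact hxU)
  let l : Spec C ⟶ Spec Γ(T₀.left, U) := IsOpenImmersion.lift hU.fromSpec (j ≫ k.left) (by
    rw [hU.range_fromSpec]
    rintro _ ⟨z, rfl⟩
    exact hsub ⟨z, rfl⟩)
  have hl : l ≫ hU.fromSpec = j ≫ k.left := IsOpenImmersion.lift_fac _ _ _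
  obtain ⟨φ, hφ⟩ := Spec.map_surjective l
  let alg : Algebra Γ(T₀.left, U) C := φ.hom.toAlgebra
  have : Etale T₀.hom := T₀.prop
  have : Etale T.hom := T.prop
  have : Etale (k.left ≫ T₀.hom) := by rw [show k.left ≫ T₀.hom = T.hom from Over.w k.hom]; exact T.prop
  have : Etale k.left := MorphismProperty.of_postcomp (W := @Etale) (W' := @Etale) k.left T₀.hom
    (inferInstance : Etale T₀.hom) this
  have hle : Etale (Spec.map φ) := by
    have : Etale (Spec.map φ ≫ hU.fromSpec) := by rw [hφ, hl]; infer_instance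
    exact MorphismProperty.of_postcomp (W := @Etale) (W' := @Etale) (Spec.map φ) hU.fromSpec
      (inferInstance : Etale hU.fromSpec) this
  have : Algebra.Etale Γ(T₀.left, U) C :=
    RingHom.etale_algebraMap.1 ((HasRingHomProperty.Spec_iff (P := @Etale)).1 hle)
  have hw : j ≫ k.left = Spec.map (CommRingCat.ofHom (algebraMap Γ(T₀.left, U) C)) ≫ hU.fromSpec :=
    hl.symm.trans (by rw [← hφ]; rfl)
  let w : Ob (hU.fromSpec ≫ T₀.hom) C ⟶ T := MorphismProperty.Over.homMk j
    (show j ≫ T.hom = Spec.map _ ≫ hU.fromSpec ≫ T₀.hom by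
      rw [← show k.left ≫ T₀.hom = T.hom from Over.w k.hom, ← Category.assoc, hw, Category.assoc])
  obtain ⟨W, r, hxW, hr⟩ := exists_lift_affine (hU.fromSpec ≫ T₀.hom) hU.fromSpec rfl hS i q
    (S.X₂.obj.map w.op s) (w ≫ k) hw (by rw [NatTrans.naturality_apply, hsk, map_map_apply]) c
  refine ⟨W, r, ?_, hr⟩
  have hcx : (Spec.map (CommRingCat.ofHom (algebraMap Γ(T₀.left, U) C)) ≫ hU.fromSpec).base c = x := by
    rw [← hw, Scheme.Hom.comp_apply, hc, ht]
  rwa [hcx] at hxW

/-- Every global section of the quotient lifts near each point of `X`. -/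
theorem exists_lift {S : ShortComplex (EtCoh.Ab X)} (hS : S.ShortExact)
    (i : EtCoh.Gm X ≅ S.X₁) (q : EtCoh.sect S.X₃ (EtCoh.top X)) (x : X) :
    ∃ (W : X.Opens) (r : EtCoh.sect S.X₂ (EtDesc.ofOpen W)), x ∈ W ∧
      S.g.hom.app (op (EtDesc.ofOpen W)) r = S.X₃.obj.map (toTop (EtDesc.ofOpen W)).op q := by
  obtain ⟨W, r, hx, hr⟩ := exists_lift_at hS i q x
  let a : EtDesc.ofOpen W ⟶ sub (EtCoh.top X) W :=
    MorphismProperty.Over.homMk (𝟙 _) ((Category.id_comp _).trans (Category.comp_id _))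
  refine ⟨W, S.X₂.obj.map a.op r, hx, ?_⟩
  refine (NatTrans.naturality_apply S.g.hom a.op r).trans ((congrArg _ hr).trans ?_)
  refine (map_map_apply S.X₃ _ a q).trans ?_
  exact congrArg (fun m => S.X₃.obj.map (Quiver.Hom.op m) q) (toTop_ext _ _)

end Groth.Agent.Lib.EtH1Gm.Lift
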