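import Groth.Agent.Lib.EtH1Gm.Zar
import Groth.Agent.H97.GlueLine
import Groth.Agent.Lib.Ample.GenLocus
import Groth.Agent.Lib.TensorMod.GenLocal
import Groth.Prelude.Def_PicGrp
import Mathlib.SetTheory.Cardinal.Order

/-!
# `H^1_et(X, G_m)` and the Picard group

`Rel c L` says that the invertible module `L` and the class `c` have the same transition units on
some cover. It is a bijective correspondence between classes and isomorphism classes of invertible
modules, compatible with sums and tensor products.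
-/

universe u

open CategoryTheory CategoryTheory.Limits AlgebraicGeometry Opposite TopologicalSpace

namespace Groth.Agent.Lib.EtH1Gm.Pic

open Groth.Agent.Lib.EtH1Gm.Zar Groth.Agent.Lib.EtH1Gm.Lift Groth.Agent.Lib.EtH1Gm.Class
open Groth.Agent.Lib.TensorMod Groth.Agent.Lib.TensorMod.Dual Groth.Agent.Lib.TensorMod.Gen
open Groth.Agent.H97

variable {X : Scheme.{u}}

/-- The injective sheaf. -/
noncomputable abbrev II (X : Scheme.{u}) : EtCoh.Ab X := (seq (EtCoh.Gm X)).X₂

/-- The quotient sheaf. -/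
noncomputable abbrev QQ (X : Scheme.{u}) : EtCoh.Ab X := (seq (EtCoh.Gm X)).X₃

/-- The inclusion of units on sections. -/
noncomputable def inc {W : X.Opens} : sc (EtCoh.Gm X) W →+ sc (II X) W :=
  ((seq (EtCoh.Gm X)).f.hom.app (op (EtDesc.ofOpen W))).hom

/-- The projection on sections. -/
noncomputable def pr {W : X.Opens} : sc (II X) W →+ sc (QQ X) W :=
  ((seq (EtCoh.Gm X)).g.hom.app (op (EtDesc.ofOpen W))).hom

theorem inc_injective {W : X.Opens} : Function.Injective (inc (X := X) (W := W)) :=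
  injective_app (seq_shortExact _) _

theorem pr_inc {W : X.Opens} (u : sc (EtCoh.Gm X) W) : pr (inc u) = 0 :=
  ConcreteCategory.congr_hom
    (congrArg (fun m : (seq (EtCoh.Gm X)).X₁ ⟶ (seq (EtCoh.Gm X)).X₃ =>
      m.hom.app (op (EtDesc.ofOpen W))) (seq (EtCoh.Gm X)).zero) u

theorem exists_inc_eq {W : X.Opens} {r : sc (II X) W} (h : pr r = 0) : ∃ u, inc u = r :=
  exists_eq_app (seq_shortExact _) _ r h

theorem inc_rsc {W U : X.Opens} (h : W ≤ U) (u : sc (EtCoh.Gm X) U) :
    inc (rsc (EtCoh.Gm X) h u) = rsc (II X) h (inc u) := app_rsc _ h u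

theorem pr_rsc {W U : X.Opens} (h : W ≤ U) (r : sc (II X) U) :
    pr (rsc (II X) h r) = rsc (QQ X) h (pr r) := app_rsc _ h r

theorem pr_rtop {U : X.Opens} (t : EtCoh.sect (II X) (EtCoh.top X)) :
    pr (rtop (II X) U t) = rtop (QQ X) U ((seq (EtCoh.Gm X)).g.hom.app (op (EtCoh.top X)) t) :=
  app_rtop _ U t

theorem uv_mul_neg {W : X.Opens} (u : sc (EtCoh.Gm X) W) : uv u * uv (-u) = 1 := by
  rw [← uv_add, add_neg_cancel, uv_zero]

section Coeff

variable {L : X.Modules} {W : X.Opens}

theorem isGen_uv_smul {e : Γ(L, W)} (he : IsGen L W e) (u : sc (EtCoh.Gm X) W) :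
    IsGen L W (uv u • e) :=
  GenLocal.isGen_smul he (isUnit_uv u)

/-- Two generators differ by a unit. -/
theorem exists_coeff {e e' : Γ(L, W)} (he : IsGen L W e) (he' : IsGen L W e') :
    ∃ u : sc (EtCoh.Gm X) W, e' = uv u • e := by
  obtain ⟨a, ha⟩ := (he W le_rfl).2 e'
  obtain ⟨b, hb⟩ := (he' W le_rfl).2 e
  simp only [rs_self] at ha hb
  have hab : b * a = 1 := (he W le_rfl).1 (by
    simp only [rs_self]; rw [mul_smul, ha, hb, one_smul])
  obtain ⟨u, hu⟩ := exists_uv_eq (W := W) (IsUnit.of_mul_eq_one_right b hab)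
  exact ⟨u, by rw [hu, ha]⟩

theorem coeff_unique {e : Γ(L, W)} (he : IsGen L W e) {u u' : sc (EtCoh.Gm X) W}
    (h : uv u • e = uv u' • e) : u = u' :=
  uv_injective ((he W le_rfl).1 (by simpa only [rs_self] using h))

theorem neg_coeff {e e' : Γ(L, W)} {u : sc (EtCoh.Gm X) W} (h : e' = uv u • e) :
    e = uv (-u) • e' := by
  rw [h, smul_smul, mul_comm, uv_mul_neg, one_smul]

theorem rs_uv_smul {W' : X.Opens} (h : W' ≤ W) (u : sc (EtCoh.Gm X) W) (e : Γ(L, W)) :
    rs L h (uv u • e) = uv (rsc (EtCoh.Gm X) h u) • rs L h e := by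
  rw [rs_smul, uv_rsc]

end Coeff

/-- The data relating a class to an invertible module. -/
structure Data (c : EtCoh.H X (EtCoh.Gm X) 1) (L : X.Modules) where
  /-- The cover, indexed by the points. -/
  U : X → X.Opens
  mem : ∀ x : X, x ∈ U x
  /-- A global section of the quotient giving the class. -/
  q : EtCoh.sect (QQ X) (EtCoh.top X)
  δq : δ (seq_shortExact (EtCoh.Gm X)) q = c
  /-- Local lifts. -/
  r : ∀ x, sc (II X) (U x)
  hr : ∀ x, pr (r x) = rtop (QQ X) (U x) q
  /-- Local generators. -/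
  e : ∀ x, Γ(L, U x)
  gen : ∀ x, IsGen L (U x) (e x)
  compat : ∀ (a b : X) (W : X.Opens) (ha : W ≤ U a) (hb : W ≤ U b) (u : sc (EtCoh.Gm X) W),
    inc u = rsc (II X) ha (r a) - rsc (II X) hb (r b) → rs L hb (e b) = uv u • rs L ha (e a)

/-- The class `c` corresponds to the module `L`. -/
def Rel (c : EtCoh.H X (EtCoh.Gm X) 1) (L : X.Modules) : Prop := Nonempty (Data c L)

theorem iSup_eq_top {U : X → X.Opens} (h : ∀ x : X, x ∈ U x) : iSup U = ⊤ :=
  top_le_iff.1 fun x _ => Opens.mem_iSup.2 ⟨x, h x⟩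

theorem Rel.isInvertible {c : EtCoh.H X (EtCoh.Gm X) 1} {L : X.Modules} (h : Rel c L) :
    PicF.IsInvertible L :=
  Gen.isInvertible_iff.2 fun x => ⟨h.some.U x, h.some.e x, h.some.mem x, h.some.gen x⟩

/-- Every class comes from an invertible module. -/
theorem exists_rel (c : EtCoh.H X (EtCoh.Gm X) 1) : ∃ L : X.Modules, Rel c L := by
  obtain ⟨q, hq⟩ := δ_surjective (seq_shortExact (EtCoh.Gm X)) c
  choose U r hx hr using exists_lift (seq_shortExact (EtCoh.Gm X)) (Iso.refl _) q
  have hex : ∀ (a b : X) (W : X.Opens) (ha : W ≤ U a) (hb : W ≤ U b),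
      ∃ u, inc u = rsc (II X) ha (r a) - rsc (II X) hb (r b) := fun a b W ha hb => by
    refine exists_inc_eq ?_
    rw [map_sub, pr_rsc, pr_rsc]
    exact sub_eq_zero.2 ((congrArg _ (hr a)).trans ((rsc_rtop _ ha q).trans
      ((rsc_rtop _ hb q).symm.trans (congrArg _ (hr b)).symm)))
  choose d hd using hex
  have tr : ∀ (i j : X) (W : X.Opens) (hi : W ≤ U i) (hj : W ≤ U j),
      rf (le_inf hi hj) (uv (d i j (U i ⊓ U j) inf_le_left inf_le_right)) = uv (d i j W hi hj) := by
    intro i j W hi hj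
    rw [← uv_rsc]
    refine congrArg uv (inc_injective ?_)
    rw [inc_rsc, hd, hd, map_sub, rsc_rsc, rsc_rsc]
  have dself : ∀ (i : X) (W : X.Opens) (hi hi' : W ≤ U i), d i i W hi hi' = 0 := fun i W hi hi' =>
    inc_injective (by rw [hd, sub_self, map_zero])
  let cy : GlueLine.Cocycle U :=
    { u := fun i j => uv (d i j (U i ⊓ U j) inf_le_left inf_le_right)
      self := fun i W h => by
        rw [show rf h (uv (d i i (U i ⊓ U i) inf_le_left inf_le_right)) =
          uv (d i i W (h.trans inf_le_left) (h.trans inf_le_right)) from tr i i W _ _, dself, uv_zero]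
      trans := fun i j k W hi hj hk => by
        rw [tr i j W hi hj, tr j k W hj hk, tr i k W hi hk, ← uv_add]
        refine congrArg uv (inc_injective ?_)
        rw [map_add, hd, hd, hd, sub_add_sub_cancel] }
  refine ⟨GlueLine.glue cy, ⟨⟨U, hx, q, hq, r, hr, fun x => GlueLine.gen cy x,
    fun x => GlueLine.isGen_gen cy x, ?_⟩⟩⟩
  intro a b W ha hb u hu
  rw [GlueLine.rs_gen cy a b ha hb]
  refine congrArg (· • _) ?_
  show rf (le_inf ha hb) _ = _
  rw [tr a b W ha hb]
  exact congrArg uv (inc_injective ((hd a b W ha hb).trans hu.symm))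

/-- Every invertible module comes with a class. -/
theorem exists_rel' {L : X.Modules} (hL : PicF.IsInvertible L) :
    ∃ c : EtCoh.H X (EtCoh.Gm X) 1, Rel c L := by
  classical
  choose U e hx he using Gen.isInvertible_iff.1 hL
  let P : ∀ a b : X, sc (II X) (U a) → sc (II X) (U b) → Prop := fun a b s t =>
    ∀ (W : X.Opens) (ha : W ≤ U a) (hb : W ≤ U b) (u : sc (EtCoh.Gm X) W),
      rs L hb (e b) = uv u • rs L ha (e a) → rsc (II X) ha s - rsc (II X) hb t = inc u
  have hsymm : ∀ a b s t, P a b s t → P b a t s := by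
    intro a b s t h W hb ha u hu
    have := h W ha hb (-u) (neg_coeff hu)
    rw [map_neg] at this
    rw [← neg_sub, this, neg_neg]
  have hrefl : ∀ a s, P a a s s := by
    intro a s W ha ha' u hu
    have h0 : uv u • rs L ha (e a) = uv (0 : sc (EtCoh.Gm X) W) • rs L ha (e a) := by
      rw [uv_zero, one_smul]; exact hu.symm
    rw [coeff_unique ((he a).res ha) h0, map_zero, sub_self]
  let F : ∀ a : X, (∀ b : X, WellOrderingRel b a → sc (II X) (U b)) → sc (II X) (U a) :=
    fun a IH => if h : ∃ s, ∀ b hb, P a b s (IH b hb) then h.choose else 0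
  let f : ∀ a : X, sc (II X) (U a) := WellFounded.fix (IsWellFounded.wf (r := WellOrderingRel)) F
  have hfix : ∀ a, f a = F a (fun b _ => f b) := fun a =>
    WellFounded.fix_eq (IsWellFounded.wf (r := WellOrderingRel)) F a
  have key : ∀ a b, WellOrderingRel b a → P a b (f a) (f b) := by
    intro a
    induction a using (IsWellFounded.wf (r := @WellOrderingRel X)).induction with
    | _ a IH =>
      have hall : ∀ b c, WellOrderingRel b a → WellOrderingRel c a → P b c (f b) (f c) := by
        intro b c hb hc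
        rcases trichotomous_of (@WellOrderingRel X) b c with h | h | h
        · exact hsymm _ _ _ _ (IH c hc b h)
        · subst h; exact hrefl b _
        · exact IH b hb c h
      have hex : ∃ s, ∀ b (hb : WellOrderingRel b a), P a b s (f b) := by
        let κ := {b : X // WellOrderingRel b a}
        let V : κ → X.Opens := fun b => U a ⊓ U b.1
        have hu : ∀ b : κ, ∃ u : sc (EtCoh.Gm X) (V b),
            rs L (inf_le_right : V b ≤ U b.1) (e b.1) =
              uv u • rs L (inf_le_left : V b ≤ U a) (e a) := fun b =>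
          exists_coeff ((he a).res _) ((he b.1).res _)
        choose u hu using hu
        let t : ∀ b : κ, sc (II X) (V b) := fun b => rsc (II X) inf_le_right (f b.1) + inc (u b)
        obtain ⟨s₀, hs₀⟩ := glue_open (II X) (U := V) (V := iSup V) (fun b => le_iSup V b) le_rfl t
          fun b c W hb hc => by
            have h1 := congrArg (rs L hb) (hu b)
            have h2 := congrArg (rs L hc) (hu c)
            rw [rs_uv_smul, rs_rs, rs_rs] at h1 h2
            obtain ⟨v, hv⟩ := exists_coeff ((he b.1).res (hb.trans inf_le_right))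
              ((he c.1).res (hc.trans inf_le_right))
            have hv' : rsc (EtCoh.Gm X) hc (u c) = rsc (EtCoh.Gm X) hb (u b) + v :=
              coeff_unique ((he a).res (hb.trans inf_le_left))
                (by rw [← h2, hv, h1, smul_smul, uv_add, mul_comm])
            have h3 := hall b.1 c.1 b.2 c.2 W _ _ v hv
            simp only [t, map_add, rsc_rsc, ← inc_rsc, hv', ← h3]
            abel
        obtain ⟨s, hs⟩ := rsc_surjective (II X) (iSup_le (fun b => inf_le_left) : iSup V ≤ U a) s₀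
        refine ⟨s, fun b hb W ha hb' w hw => ?_⟩
        have hW : W ≤ V ⟨b, hb⟩ := le_inf ha hb'
        have h1 := congrArg (rs L hW) (hu ⟨b, hb⟩)
        rw [rs_uv_smul, rs_rs, rs_rs] at h1
        have hw' : w = rsc (EtCoh.Gm X) hW (u ⟨b, hb⟩) :=
          coeff_unique ((he a).res ha) (hw.symm.trans h1)
        have h2 := congrArg (rsc (II X) hW) (hs₀ ⟨b, hb⟩)
        rw [← hs, rsc_rsc, rsc_rsc] at h2
        rw [h2, hw', inc_rsc]
        simp only [t, map_add, rsc_rsc]
        abel
      intro b hb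
      rw [hfix a]
      simp only [F, dif_pos hex]
      exact hex.choose_spec b hb
  have all : ∀ a b, P a b (f a) (f b) := fun a b => by
    rcases trichotomous_of (@WellOrderingRel X) b a with h | h | h
    · exact key a b h
    · subst h; exact hrefl _ _
    · exact hsymm _ _ _ _ (key b a h)
  obtain ⟨q, hq⟩ := glue_top (QQ X) (iSup_eq_top hx) (fun a => pr (f a)) fun a b W ha hb => by
    obtain ⟨u, hu⟩ := exists_coeff ((he a).res ha) ((he b).res hb)
    have h := all a b W ha hb u hu
    rw [← pr_rsc, ← pr_rsc, ← sub_eq_zero, ← map_sub, h, pr_inc]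
  refine ⟨_, ⟨⟨U, hx, q, rfl, f, fun a => (hq a).symm, e, he, fun a b W ha hb u hu => ?_⟩⟩⟩
  obtain ⟨v, hv⟩ := exists_coeff ((he a).res ha) ((he b).res hb)
  rw [inc_injective (hu.trans (all a b W ha hb v hv)), hv]

/-- Corresponding classes agree exactly when the modules are isomorphic. -/
theorem Rel.eq_iff {c c' : EtCoh.H X (EtCoh.Gm X) 1} {L L' : X.Modules} (h : Rel c L)
    (h' : Rel c' L') : c = c' ↔ Nonempty (L ≅ L') := by
  obtain ⟨D⟩ := h
  obtain ⟨D'⟩ := h'
  let V : X → X.Opens := fun x => D.U x ⊓ D'.U x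
  have hl : ∀ x, V x ≤ D.U x := fun x => inf_le_left
  have hr : ∀ x, V x ≤ D'.U x := fun x => inf_le_right
  have hV : iSup V = ⊤ := iSup_eq_top fun x => ⟨D.mem x, D'.mem x⟩
  let e : ∀ x, Γ(L, V x) := fun x => rs L (hl x) (D.e x)
  let e' : ∀ x, Γ(L', V x) := fun x => rs L' (hr x) (D'.e x)
  let d : ∀ x, sc (II X) (V x) := fun x => rsc (II X) (hl x) (D.r x) - rsc (II X) (hr x) (D'.r x)
  have hd : ∀ x, pr (d x) = rtop (QQ X) (V x) (D.q - D'.q) := fun x => by
    rw [map_sub, map_sub, pr_rsc, pr_rsc, D.hr, D'.hr, rsc_rtop, rsc_rtop]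
  have hE : ∀ (a b : X) (W : X.Opens) (ha : W ≤ V a) (hb : W ≤ V b) (w w' : sc (EtCoh.Gm X) W),
      rs L hb (e b) = uv w • rs L ha (e a) → rs L' hb (e' b) = uv w' • rs L' ha (e' a) →
      rsc (II X) ha (d a) - rsc (II X) hb (d b) = inc (w - w') := by
    intro a b W ha hb w w' hw hw'
    obtain ⟨v, hv⟩ := exists_inc_eq (r := rsc (II X) (ha.trans (hl a)) (D.r a) -
      rsc (II X) (hb.trans (hl b)) (D.r b))
      (by rw [map_sub, pr_rsc, pr_rsc, D.hr, D.hr, rsc_rtop, rsc_rtop, sub_self])
    obtain ⟨v', hv'⟩ := exists_inc_eq (r := rsc (II X) (ha.trans (hr a)) (D'.r a) -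
      rsc (II X) (hb.trans (hr b)) (D'.r b))
      (by rw [map_sub, pr_rsc, pr_rsc, D'.hr, D'.hr, rsc_rtop, rsc_rtop, sub_self])
    have hwv : w = v := coeff_unique (((D.gen a).res (hl a)).res ha) (hw.symm.trans (by
      simp only [e, rs_rs]; exact D.compat a b W _ _ v hv))
    have hwv' : w' = v' := coeff_unique (((D'.gen a).res (hr a)).res ha) (hw'.symm.trans (by
      simp only [e', rs_rs]; exact D'.compat a b W _ _ v' hv'))
    rw [hwv, hwv', map_sub inc v v', hv, hv']
    simp only [d, map_sub, rsc_rsc]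
    abel
  constructor
  · intro hc
    have h0 : δ (seq_shortExact (EtCoh.Gm X)) (D.q - D'.q) = 0 := by
      rw [map_sub, D.δq, D'.δq, hc]
      exact sub_self c'
    obtain ⟨t, ht⟩ := (δ_eq_zero_iff _ _).1 h0
    have hw : ∀ x, ∃ w, inc w = d x - rtop (II X) (V x) t := fun x => exists_inc_eq (by
      rw [map_sub, hd, pr_rtop, ht, sub_self])
    choose w hw using hw
    obtain ⟨φ, -⟩ := HomGlue.exists_iso_of_gen hV e (fun x => (D.gen x).res (hl x))
      (fun x => uv (-(w x)) • e' x) (fun x => isGen_uv_smul ((D'.gen x).res (hr x)) _)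
      fun i j W hi hj cc hcc => by
        obtain ⟨v, hv⟩ := exists_coeff (((D.gen j).res (hl j)).res hj) (((D.gen i).res (hl i)).res hi)
        obtain ⟨v', hv'⟩ :=
          exists_coeff (((D'.gen j).res (hr j)).res hj) (((D'.gen i).res (hr i)).res hi)
        have hcv : cc = uv v := (((D.gen j).res (hl j)).res hj W le_rfl).1
          (by simp only [rs_self]; exact hcc.symm.trans hv)
        have h1 := hE j i W hj hi v v' hv hv'
        have h2 : rsc (EtCoh.Gm X) hj (w j) - rsc (EtCoh.Gm X) hi (w i) = v - v' := inc_injective (by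
          rw [← h1, map_sub inc, inc_rsc, inc_rsc, hw, hw]
          simp only [map_sub, rsc_rtop]
          abel)
        rw [hcv, rs_uv_smul, rs_uv_smul, hv', smul_smul, smul_smul, ← uv_add, ← uv_add]
        refine congrArg (fun z => uv z • rs L' hj (e' j)) ?_
        rw [map_neg, map_neg]
        linear_combination (norm := abel) h2
    exact ⟨φ⟩
  · rintro ⟨φ⟩
    have hφgen : ∀ x, IsGen L' (V x) (φ.hom.app (V x) (e x)) := fun x W hW => by
      have hb : Function.Bijective (φ.hom.app W) := ConcreteCategory.bijective_of_isIso _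
      have h2 : (fun a : Γ(X, W) => a • rs L' hW (φ.hom.app (V x) (e x))) =
          φ.hom.app W ∘ fun a => a • rs L hW (e x) := funext fun a => by
        rw [Function.comp_apply, Scheme.Modules.Hom.app_smul, HomGlue.rs_app]
      rw [h2]
      exact hb.comp ((D.gen x).res (hl x) W hW)
    have hm : ∀ x, ∃ m, φ.hom.app (V x) (e x) = uv m • e' x := fun x =>
      exists_coeff ((D'.gen x).res (hr x)) (hφgen x)
    choose m hm using hm
    obtain ⟨t, ht⟩ := glue_top (II X) hV (fun x => d x + inc (m x)) fun a b W ha hb => by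
      obtain ⟨v, hv⟩ := exists_coeff (((D.gen a).res (hl a)).res ha) (((D.gen b).res (hl b)).res hb)
      obtain ⟨v', hv'⟩ :=
        exists_coeff (((D'.gen a).res (hr a)).res ha) (((D'.gen b).res (hr b)).res hb)
      have h1 := hE a b W ha hb v v' hv hv'
      have h3 := congrArg (φ.hom.app W) hv
      rw [Scheme.Modules.Hom.app_smul, ← HomGlue.rs_app φ.hom hb (e b),
        ← HomGlue.rs_app φ.hom ha (e a), hm, hm, rs_uv_smul,
        rs_uv_smul, hv', smul_smul, smul_smul, ← uv_add, ← uv_add] at h3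
      have h4 := coeff_unique (((D'.gen a).res (hr a)).res ha) h3
      have h5 := congrArg inc h4
      rw [map_add, map_add, inc_rsc, inc_rsc] at h5
      simp only [d, map_sub, rsc_rsc] at h1
      rw [map_add, map_add]
      simp only [d, map_sub, rsc_rsc]
      linear_combination (norm := abel) h1 - h5
    have hq : (seq (EtCoh.Gm X)).g.hom.app (op (EtCoh.top X)) t = D.q - D'.q :=
      ext_top (QQ X) hV fun x => by
        rw [← pr_rtop, ht, map_add, pr_inc, add_zero, hd]
    rw [← D.δq, ← D'.δq]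
    exact sub_eq_zero.1 ((map_sub _ _ _).symm.trans ((δ_eq_zero_iff _ _).2 ⟨t, hq⟩))

/-- Sums of classes correspond to tensor products. -/
theorem Rel.add {c c' : EtCoh.H X (EtCoh.Gm X) 1} {L L' : X.Modules} (h : Rel c L)
    (h' : Rel c' L') : Rel (c + c') (CohB1.tensorMod L L') := by
  obtain ⟨D⟩ := h
  obtain ⟨D'⟩ := h'
  let V : X → X.Opens := fun x => D.U x ⊓ D'.U x
  have hl : ∀ x, V x ≤ D.U x := fun x => inf_le_left
  have hr : ∀ x, V x ≤ D'.U x := fun x => inf_le_right
  refine ⟨⟨V, fun x => ⟨D.mem x, D'.mem x⟩, D.q + D'.q,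
    (map_add _ _ _).trans (congrArg₂ (· + ·) D.δq D'.δq),
    fun x => rsc (II X) (hl x) (D.r x) + rsc (II X) (hr x) (D'.r x), fun x => ?_,
    fun x => SecTwist.tmul L L' (V x) (rs L (hl x) (D.e x)) (rs L' (hr x) (D'.e x)),
    fun x => Ample.GenLocus.isGen_tmul ((D.gen x).res (hl x)) ((D'.gen x).res (hr x)), ?_⟩⟩
  · rw [map_add, map_add, pr_rsc, pr_rsc, D.hr, D'.hr, rsc_rtop, rsc_rtop]
  intro a b W ha hb u hu
  obtain ⟨v, hv⟩ := exists_inc_eq (r := rsc (II X) (ha.trans (hl a)) (D.r a) -
    rsc (II X) (hb.trans (hl b)) (D.r b))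
    (by rw [map_sub, pr_rsc, pr_rsc, D.hr, D.hr, rsc_rtop, rsc_rtop, sub_self])
  obtain ⟨v', hv'⟩ := exists_inc_eq (r := rsc (II X) (ha.trans (hr a)) (D'.r a) -
    rsc (II X) (hb.trans (hr b)) (D'.r b))
    (by rw [map_sub, pr_rsc, pr_rsc, D'.hr, D'.hr, rsc_rtop, rsc_rtop, sub_self])
  have huv : u = v + v' := inc_injective (by
    rw [hu, map_add inc v v', hv, hv']
    simp only [map_add, rsc_rsc]
    abel)
  rw [Ample.GenLocus.rs_tmul, Ample.GenLocus.rs_tmul, rs_rs, rs_rs, rs_rs, rs_rs,
    D.compat a b W _ _ v hv, D'.compat a b W _ _ v' hv', Ample.GenLocus.tmul_smul, huv, uv_add]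
  rfl

end Groth.Agent.Lib.EtH1Gm.Pic
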