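import Mathlib.RingTheory.Flat.Basic
import Mathlib.RingTheory.TensorProduct.Maps
import Mathlib.AlgebraicGeometry.PullbackCarrier
import Mathlib.AlgebraicGeometry.Pullbacks

/-!
# Descent of a unit cocycle along a flat ring map
-/

universe u

open TensorProduct AlgebraicGeometry CategoryTheory

namespace Groth.Agent.Lib.EtH1Gm.RingDesc

variable {A B : Type u} [CommRing A] [CommRing B] [Algebra A B]

variable (A B) in
/-- The three inclusions into the triple tensor product. -/
noncomputable def j₁ : B →ₐ[A] (B ⊗[A] B) ⊗[A] B :=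
  Algebra.TensorProduct.includeLeft.comp Algebra.TensorProduct.includeLeft

variable (A B) in
/-- The second inclusion. -/
noncomputable def j₂ : B →ₐ[A] (B ⊗[A] B) ⊗[A] B :=
  Algebra.TensorProduct.includeLeft.comp Algebra.TensorProduct.includeRight

variable (A B) in
/-- The third inclusion. -/
noncomputable def j₃ : B →ₐ[A] (B ⊗[A] B) ⊗[A] B :=
  Algebra.TensorProduct.includeRight

/-- Induced maps out of the double tensor product. -/
noncomputable def d (a b : B →ₐ[A] (B ⊗[A] B) ⊗[A] B) : B ⊗[A] B →ₐ[A] (B ⊗[A] B) ⊗[A] B :=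
  Algebra.TensorProduct.lift a b fun _ _ => .all _ _

/-- The defining equation of the descended module. -/
noncomputable def phi (g : B ⊗[A] B) : B →ₗ[A] B ⊗[A] B :=
  (LinearMap.mulLeft A g).comp Algebra.TensorProduct.includeLeft.toLinearMap -
    Algebra.TensorProduct.includeRight.toLinearMap

theorem mem_ker_phi {g : B ⊗[A] B} {b : B} :
    b ∈ LinearMap.ker (phi g) ↔ g * (b ⊗ₜ 1) = 1 ⊗ₜ b := by
  rw [LinearMap.mem_ker, phi, LinearMap.sub_apply, sub_eq_zero]
  rfl

theorem phi_rTensor (g : B ⊗[A] B) (z : B ⊗[A] B) :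
    (phi g).rTensor B z = d (j₁ A B) (j₂ A B) g * d (j₁ A B) (j₃ A B) z - d (j₂ A B) (j₃ A B) z := by
  induction z using TensorProduct.induction_on with
  | zero => simp
  | add x y hx hy => rw [map_add, hx, hy, map_add, map_add]; ring
  | tmul b c =>
    have hd : ∀ w : B ⊗[A] B, d (j₁ A B) (j₂ A B) w = w ⊗ₜ 1 := fun w => by
      induction w using TensorProduct.induction_on with
      | zero => simp
      | add x y hx hy => rw [map_add, hx, hy, add_tmul]
      | tmul p q => simp [d, j₁, j₂]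
    rw [LinearMap.rTensor_tmul, hd]
    change (g * (b ⊗ₜ 1) - 1 ⊗ₜ b) ⊗ₜ c = _
    simp [d, j₁, j₂, j₃, sub_tmul]

theorem lift_id_tmul (m b : B) :
    Algebra.TensorProduct.lift (AlgHom.id A B) (AlgHom.id A B) (fun _ _ => .all _ _) (m ⊗ₜ b) = m * b := by
  simp

/-- The descended module of a unit cocycle generates the unit ideal. -/
theorem exists_mem_ker_notMem [Module.Flat A B] (g : B ⊗[A] B) (hg : IsUnit g)
    (hc : d (j₁ A B) (j₂ A B) g * d (j₂ A B) (j₃ A B) g = d (j₁ A B) (j₃ A B) g)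
    (q : Ideal B) [q.IsPrime] :
    ∃ m : B, g * (m ⊗ₜ 1) = 1 ⊗ₜ m ∧ m ∉ q := by
  by_contra hne
  push Not at hne
  obtain ⟨h, hgh⟩ := hg.exists_right_inv
  have hz : (phi g).rTensor B h = 0 := by
    have e : ∀ a b : B →ₐ[A] (B ⊗[A] B) ⊗[A] B, d a b g * d a b h = 1 := fun a b => by
      rw [← map_mul, hgh, map_one]
    rw [phi_rTensor]
    linear_combination
      (d (j₂ A B) (j₃ A B) h * d (j₁ A B) (j₃ A B) h) * hc -
      (d (j₁ A B) (j₂ A B) g * d (j₁ A B) (j₃ A B) h) * e (j₂ A B) (j₃ A B) +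
      d (j₂ A B) (j₃ A B) h * e (j₁ A B) (j₃ A B)
  obtain ⟨y, rfl⟩ :=
    (Module.Flat.rTensor_exact B (LinearMap.exact_subtype_ker_map (phi g)) h).1 hz
  let μ : B ⊗[A] B →ₐ[A] B :=
    Algebra.TensorProduct.lift (AlgHom.id A B) (AlgHom.id A B) (fun _ _ => .all _ _)
  have hmem : ∀ w, μ ((LinearMap.ker (phi g)).subtype.rTensor B w) ∈ q := by
    intro w
    induction w using TensorProduct.induction_on with
    | zero => simp
    | add x y hx hy => rw [map_add, map_add]; exact add_mem hx hy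
    | tmul m b =>
      rw [LinearMap.rTensor_tmul]
      refine (congrArg (· ∈ q) (lift_id_tmul (A := A) (m : B) b)).mpr ?_
      exact q.mul_mem_right b (hne m (mem_ker_phi.1 m.2))
  refine Ideal.IsPrime.ne_top ‹_› ((Ideal.eq_top_iff_one q).2 ?_)
  rw [← map_one μ, ← hgh, map_mul]
  exact q.mul_mem_left _ (hmem y)

/-- Membership in a prime is constant on fibres for solutions of the descent equation. -/
theorem notMem_of_comap_eq {g : B ⊗[A] B} (hg : IsUnit g) {m : B} (hm : g * (m ⊗ₜ 1) = 1 ⊗ₜ m)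
    {q q' : PrimeSpectrum B}
    (h : PrimeSpectrum.comap (algebraMap A B) q = PrimeSpectrum.comap (algebraMap A B) q')
    (hq : m ∉ q.asIdeal) : m ∉ q'.asIdeal := by
  obtain ⟨z, hz₁, hz₂⟩ := Scheme.Pullback.exists_preimage_pullback
    (f := Spec.map (CommRingCat.ofHom (algebraMap A B)))
    (g := Spec.map (CommRingCat.ofHom (algebraMap A B))) q q' h
  let Q : PrimeSpectrum (B ⊗[A] B) := (pullbackSpecIso A B B).hom.base z
  have hQ₁ : PrimeSpectrum.comap
      (Algebra.TensorProduct.includeLeftRingHom : B →+* B ⊗[A] B) Q = q := by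
    refine Eq.trans ?_ hz₁
    rw [← pullbackSpecIso_hom_fst (R := A) (S := B) (T := B), Scheme.Hom.comp_apply]
    rfl
  have hQ₂ : PrimeSpectrum.comap
      (Algebra.TensorProduct.includeRight (R := A) (A := B) (B := B)).toRingHom Q = q' := by
    refine Eq.trans ?_ hz₂
    rw [← pullbackSpecIso_hom_snd (R := A) (S := B) (T := B), Scheme.Hom.comp_apply]
    rfl
  rw [← hQ₁, PrimeSpectrum.comap_asIdeal, Ideal.mem_comap] at hq
  rw [← hQ₂, PrimeSpectrum.comap_asIdeal, Ideal.mem_comap]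
  intro h2
  change (1 ⊗ₜ m : B ⊗[A] B) ∈ Q.asIdeal at h2
  rw [← hm] at h2
  exact (Q.isPrime.mem_or_mem h2).elim
    (fun hg' => Q.isPrime.ne_top (Ideal.eq_top_of_isUnit_mem _ hg' hg)) hq

end Groth.Agent.Lib.EtH1Gm.RingDesc
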