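import Groth.Agent.Lib.EtH1Gm.Class
import Groth.Agent.Lib.TensorMod.Dual

/-!
# Sections of étale sheaves over Zariski opens
-/

universe u

open CategoryTheory CategoryTheory.Limits AlgebraicGeometry Opposite TopologicalSpace

namespace Groth.Agent.Lib.EtH1Gm.Zar

open Groth.Agent.H88 Groth.Agent.Lib.EtSite Groth.Agent.Lib.EtH1Gm.Lift
open Groth.Agent.Lib.TensorMod.Dual (rf)

variable {X : Scheme.{u}}

/-- Sections over an open. -/
abbrev sc (F : EtCoh.Ab X) (W : X.Opens) : Type (u + 1) := EtCoh.sect F (EtDesc.ofOpen W)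

theorem ι_mem {W U : X.Opens} (h : W ≤ U) (t : (EtDesc.ofOpen W).left) :
    (EtDesc.ofOpen W).hom.base t ∈ U := h (show W.ι.base t ∈ W from t.2)

/-- The inclusion of opens. -/
noncomputable def oMap {W U : X.Opens} (h : W ≤ U) : EtDesc.ofOpen W ⟶ EtDesc.ofOpen U :=
  OpenSub.toOpen U _ (ι_mem h)

theorem oMap_left {W U : X.Opens} (h : W ≤ U) : (oMap h).left = X.homOfLE h :=
  (cancel_mono U.ι).1 ((Over.w (oMap h).hom :).trans (X.homOfLE_ι h).symm)

/-- Restriction of sections. -/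
noncomputable def rsc (F : EtCoh.Ab X) {W U : X.Opens} (h : W ≤ U) : sc F U →+ sc F W :=
  (F.obj.map (oMap h).op).hom

theorem rsc_rsc (F : EtCoh.Ab X) {V W U : X.Opens} (h : W ≤ U) (h' : V ≤ W) (s : sc F U) :
    rsc F h' (rsc F h s) = rsc F (h'.trans h) s :=
  (map_map_apply F _ _ s).trans
    (congrArg (fun a => F.obj.map (Quiver.Hom.op a) s) ((OpenSub.subsingleton_hom U _).elim _ _))

theorem rsc_self (F : EtCoh.Ab X) {U : X.Opens} (h : U ≤ U) (s : sc F U) : rsc F h s = s := by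
  show F.obj.map (oMap h).op s = s
  rw [(OpenSub.subsingleton_hom U _).elim (oMap h) (𝟙 _), op_id, F.obj.map_id]
  rfl

/-- Restriction of global sections. -/
noncomputable def rtop (F : EtCoh.Ab X) (U : X.Opens) : EtCoh.sect F (EtCoh.top X) →+ sc F U :=
  (F.obj.map (toTop (EtDesc.ofOpen U)).op).hom

theorem rsc_rtop (F : EtCoh.Ab X) {W U : X.Opens} (h : W ≤ U) (s : EtCoh.sect F (EtCoh.top X)) :
    rsc F h (rtop F U s) = rtop F W s :=
  (map_map_apply F _ _ s).trans (congrArg (fun a => F.obj.map (Quiver.Hom.op a) s) (toTop_ext _ _))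

theorem app_rsc {F G : EtCoh.Ab X} (φ : F ⟶ G) {W U : X.Opens} (h : W ≤ U) (s : sc F U) :
    φ.hom.app (op (EtDesc.ofOpen W)) (rsc F h s) = rsc G h (φ.hom.app (op (EtDesc.ofOpen U)) s) :=
  NatTrans.naturality_apply φ.hom _ s

theorem app_rtop {F G : EtCoh.Ab X} (φ : F ⟶ G) (U : X.Opens) (s : EtCoh.sect F (EtCoh.top X)) :
    φ.hom.app (op (EtDesc.ofOpen U)) (rtop F U s) =
      rtop G U (φ.hom.app (op (EtCoh.top X)) s) :=
  NatTrans.naturality_apply φ.hom _ s

section Glue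

variable (F : EtCoh.Ab X) {ι : Type u} (U : ι → X.Opens) {T : X.Etale} (o : ∀ a, EtDesc.ofOpen (U a) ⟶ T)
  (ho : ∀ t : T.left, ∃ (a : ι) (v : (EtDesc.ofOpen (U a)).left), (o a).left.base v = t)

include ho in
theorem isSheafFor_ofOpens :
    (Presieve.ofArrows (fun a => EtDesc.ofOpen (U a)) o).IsSheafFor
      (F.obj ⋙ forget AddCommGrpCat.{u + 1}) := by
  rw [Presieve.isSheafFor_iff_generate]
  exact ((isSheaf_iff_isSheaf_of_type _ _).1
    ((sheafCompose X.smallEtaleTopology (forget AddCommGrpCat.{u + 1})).obj F).2) _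
      (Basic.ofArrows_mem _ o ho)

include ho in
theorem ext_ofOpens {s t : EtCoh.sect F T} (h : ∀ a, F.obj.map (o a).op s = F.obj.map (o a).op t) :
    s = t :=
  (isSheafFor_ofOpens F U o ho).isSeparatedFor.ext fun Z g hg => by
    obtain ⟨a⟩ := hg
    exact h a

include ho in
theorem glue_ofOpens (r : ∀ a, sc F (U a))
    (hr : ∀ a b (W : X.Opens) (ha : W ≤ U a) (hb : W ≤ U b), rsc F ha (r a) = rsc F hb (r b)) :
    ∃ s : EtCoh.sect F T, ∀ a, F.obj.map (o a).op s = r a := by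
  obtain ⟨s, hs, -⟩ := (Presieve.isSheafFor_arrows_iff _ _).1 (isSheafFor_ofOpens F U o ho) r
    (fun a b Z ga gb _ => by
      have hZ : ∀ z, Z.hom.base z ∈ U a ⊓ U b := fun z =>
        ⟨OpenSub.hom_range (U a) ga z, OpenSub.hom_range (U b) gb z⟩
      let z := OpenSub.toOpen (U a ⊓ U b) Z hZ
      show F.obj.map ga.op (r a) = F.obj.map gb.op (r b)
      rw [(OpenSub.subsingleton_hom _ _).elim ga (z ≫ oMap inf_le_left),
        (OpenSub.subsingleton_hom _ _).elim gb (z ≫ oMap inf_le_right),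
        ← map_map_apply, ← map_map_apply]
      exact congrArg _ (hr a b _ inf_le_left inf_le_right))
  exact ⟨s, hs⟩

end Glue

variable (F : EtCoh.Ab X) {ι : Type u} {U : ι → X.Opens}

theorem toTop_surjective (hU : iSup U = ⊤) (t : (EtCoh.top X).left) :
    ∃ (a : ι) (v : (EtDesc.ofOpen (U a)).left), (toTop (EtDesc.ofOpen (U a))).left.base v = t := by
  obtain ⟨a, ha⟩ := Opens.mem_iSup.1 (show (t : X) ∈ iSup U by rw [hU]; trivial)
  exact ⟨a, ⟨t, ha⟩, rfl⟩

theorem ext_top (hU : iSup U = ⊤) {s t : EtCoh.sect F (EtCoh.top X)}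
    (h : ∀ a, rtop F (U a) s = rtop F (U a) t) : s = t :=
  ext_ofOpens F U (fun _ => toTop _) (toTop_surjective hU) h

theorem glue_top (hU : iSup U = ⊤) (r : ∀ a, sc F (U a))
    (hr : ∀ a b (W : X.Opens) (ha : W ≤ U a) (hb : W ≤ U b), rsc F ha (r a) = rsc F hb (r b)) :
    ∃ s : EtCoh.sect F (EtCoh.top X), ∀ a, rtop F (U a) s = r a :=
  glue_ofOpens F U (fun _ => toTop _) (toTop_surjective hU) r hr

theorem oMap_surjective {V : X.Opens} (hV : ∀ a, U a ≤ V) (hVU : V ≤ iSup U)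
    (t : (EtDesc.ofOpen V).left) :
    ∃ (a : ι) (v : (EtDesc.ofOpen (U a)).left), (oMap (hV a)).left.base v = t := by
  obtain ⟨a, ha⟩ := Opens.mem_iSup.1 (hVU (show V.ι.base t ∈ V from t.2))
  refine ⟨a, ⟨V.ι.base t, ha⟩, ?_⟩
  apply Subtype.ext
  rw [oMap_left, Scheme.homOfLE_base]
  rfl

theorem glue_open {V : X.Opens} (hV : ∀ a, U a ≤ V) (hVU : V ≤ iSup U) (r : ∀ a, sc F (U a))
    (hr : ∀ a b (W : X.Opens) (ha : W ≤ U a) (hb : W ≤ U b), rsc F ha (r a) = rsc F hb (r b)) :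
    ∃ s : sc F V, ∀ a, rsc F (hV a) s = r a :=
  glue_ofOpens F U (fun a => oMap (hV a)) (oMap_surjective hV hVU) r hr

/-- Sections of an injective sheaf extend to larger opens. -/
theorem rsc_surjective [Injective F] {W U : X.Opens} (h : W ≤ U) :
    Function.Surjective (rsc F h) := by
  have : Mono (oMap h) := ⟨fun a b _ => (OpenSub.subsingleton_hom W _).elim a b⟩
  exact FreeSheaf.map_surjective_of_injective (oMap h) F

section Units

/-- The function underlying a section of `G_m` over an open. -/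
noncomputable def uv {W : X.Opens} (x : sc (EtCoh.Gm X) W) : Γ(X, W) :=
  W.topIso.hom (MuLocal.val x)

theorem uv_add {W : X.Opens} (x y : sc (EtCoh.Gm X) W) : uv (x + y) = uv x * uv y :=
  (congrArg _ (Units.val_mul _ _)).trans (map_mul W.topIso.hom.hom _ _)

theorem uv_zero {W : X.Opens} : uv (0 : sc (EtCoh.Gm X) W) = 1 := map_one W.topIso.hom.hom

theorem isUnit_uv {W : X.Opens} (x : sc (EtCoh.Gm X) W) : IsUnit (uv x) :=
  (Additive.toMul (ULift.down x : Additive (Γ((EtDesc.ofOpen W).left, ⊤))ˣ)).isUnit.map W.topIso.hom.hom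

theorem uv_injective {W : X.Opens} : Function.Injective (uv (X := X) (W := W)) :=
  (ConcreteCategory.bijective_of_isIso W.topIso.hom).1.comp MuLocal.val_injective

theorem exists_uv_eq {W : X.Opens} {c : Γ(X, W)} (hc : IsUnit c) :
    ∃ x : sc (EtCoh.Gm X) W, uv x = c :=
  ⟨ULift.up (Additive.ofMul (hc.map W.topIso.inv.hom).unit), Iso.inv_hom_id_apply W.topIso c⟩

theorem uv_rsc {W U : X.Opens} (h : W ≤ U) (x : sc (EtCoh.Gm X) U) :
    uv (rsc (EtCoh.Gm X) h x) = rf h (uv x) := by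
  show W.topIso.hom ((oMap h).left.appTop (MuLocal.val x)) = rf h (U.topIso.hom (MuLocal.val x))
  rw [oMap_left]
  have e : (X.homOfLE h).appTop ≫ W.topIso.hom =
      U.topIso.hom ≫ X.presheaf.map (homOfLE h).op := by
    simp only [Scheme.Hom.appTop, Scheme.homOfLE_app, Scheme.Opens.topIso_hom]
    refine ((X.presheaf.map_comp _ _).symm.trans ?_).trans (X.presheaf.map_comp _ _)
    rfl
  exact ConcreteCategory.congr_hom e (MuLocal.val x)

end Units

end Groth.Agent.Lib.EtH1Gm.Zar
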